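import Groth.Agent.Ega1.SubSheaf
import Groth.Prelude.Def_Coh

/-!
# Morphisms between restrictions of modules to an open, on sections
-/

set_option autoImplicit false
universe u

open CategoryTheory CategoryTheory.Limits AlgebraicGeometry TopologicalSpace Opposite
open Groth.Agent.Ega1.SubSheaf

namespace K592.AppR

variable {X : Scheme.{u}} {A B C M : X.Modules} {U : X.Opens}

theorem image_top (U : X.Opens) : U.ι ''ᵁ ⊤ = U := by
  rw [Scheme.Hom.image_top_eq_opensRange, Scheme.Opens.opensRange_ι]

/-- The restriction of `M` to `U`. -/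
noncomputable abbrev rst (U : X.Opens) (M : X.Modules) : (↑U : Scheme.{u}).Modules :=
  (Scheme.Modules.restrictFunctor U.ι).obj M

/-- Sections of the restriction. -/
noncomputable def rs (U : X.Opens) (M : X.Modules) (W : (↑U : Scheme.{u}).Opens) :
    Γ(rst U M, W) ≃+ Γ(M, U.ι ''ᵁ W) := AddEquiv.refl _

/-- Sections of the structure sheaf of the open subscheme. -/
noncomputable def ro (U : X.Opens) (W : (↑U : Scheme.{u}).Opens) :
    Γ((↑U : Scheme.{u}), W) ≃+* Γ(X, U.ι ''ᵁ W) := RingEquiv.refl _

theorem rs_smul (W : (↑U : Scheme.{u}).Opens) (r : Γ((↑U : Scheme.{u}), W)) (x : Γ(rst U M, W)) :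
    rs U M W (r • x) = ro U W r • rs U M W x := by
  have h := Scheme.Modules.smul_restrictAppIso_hom (f := U.ι) M W r
  have h2 := ConcreteCategory.congr_hom h x
  rw [Scheme.Opens.ι_appIso] at h2
  exact h2

/-- A morphism of restrictions on sections. -/
noncomputable def appW (g : rst U A ⟶ rst U B) (W : (↑U : Scheme.{u}).Opens) :
    Γ(A, U.ι ''ᵁ W) →+ Γ(B, U.ι ''ᵁ W) :=
  (rs U B W).toAddMonoidHom.comp ((g.app W).hom.comp (rs U A W).symm.toAddMonoidHom)

theorem appW_apply (g : rst U A ⟶ rst U B) (W : (↑U : Scheme.{u}).Opens) (x : Γ(rst U A, W)) :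
    appW g W (rs U A W x) = rs U B W (g.app W x) := rfl

theorem appW_map (f : A ⟶ B) (W : (↑U : Scheme.{u}).Opens) (a : Γ(A, U.ι ''ᵁ W)) :
    appW ((Scheme.Modules.restrictFunctor U.ι).map f) W a = f.app _ a := rfl

theorem appW_comp (g : rst U A ⟶ rst U B) (h : rst U B ⟶ rst U C) (W : (↑U : Scheme.{u}).Opens)
    (a : Γ(A, U.ι ''ᵁ W)) : appW (g ≫ h) W a = appW h W (appW g W a) := rfl

theorem appW_id (W : (↑U : Scheme.{u}).Opens)
    (a : Γ(A, U.ι ''ᵁ W)) : appW (𝟙 (rst U A)) W a = a := rfl

theorem appW_add (g h : rst U A ⟶ rst U B) (W : (↑U : Scheme.{u}).Opens)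
    (a : Γ(A, U.ι ''ᵁ W)) : appW (g + h) W a = appW g W a + appW h W a := rfl

theorem appW_smul (g : rst U A ⟶ rst U B) (W : (↑U : Scheme.{u}).Opens) (r : Γ(X, U.ι ''ᵁ W))
    (a : Γ(A, U.ι ''ᵁ W)) : appW g W (r • a) = r • appW g W a := by
  have h1 := Scheme.Modules.Hom.app_smul g ((ro U W).symm r) ((rs U A W).symm a)
  have h2 : (ro U W).symm r • (rs U A W).symm a = (rs U A W).symm (r • a) := by
    apply (rs U A W).injective
    rw [rs_smul, RingEquiv.apply_symm_apply, AddEquiv.apply_symm_apply, AddEquiv.apply_symm_apply]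
  rw [h2] at h1
  have h3 := congrArg (rs U B W) h1
  rw [rs_smul, RingEquiv.apply_symm_apply] at h3
  exact h3

theorem appW_res (g : rst U A ⟶ rst U B) {W W' : (↑U : Scheme.{u}).Opens} (h : W' ≤ W)
    (a : Γ(A, U.ι ''ᵁ W)) : appW g W' (res A (Scheme.Hom.image_mono U.ι h) a) =
      res B (Scheme.Hom.image_mono U.ι h) (appW g W a) :=
  app_res g h a

theorem ext_appW {g h : rst U A ⟶ rst U B}
    (H : ∀ (W : (↑U : Scheme.{u}).Opens) (a : Γ(A, U.ι ''ᵁ W)), appW g W a = appW h W a) :
    g = h := by
  apply Scheme.Modules.hom_ext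
  intro W
  ext x
  exact H W x

/-- The value of a morphism of restrictions at a section over `U`. -/
noncomputable def ev (g : rst U A ⟶ rst U B) (a : Γ(A, U)) : Γ(B, U) :=
  res B (image_top U).ge (appW g ⊤ (res A (image_top U).le a))

theorem ev_map (f : A ⟶ B) (a : Γ(A, U)) :
    ev ((Scheme.Modules.restrictFunctor U.ι).map f) a = f.app U a := by
  unfold ev
  rw [appW_map, app_res, res_res, res_self]

theorem ev_comp (g : rst U A ⟶ rst U B) (h : rst U B ⟶ rst U C) (a : Γ(A, U)) :
    ev (g ≫ h) a = ev h (ev g a) := by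
  unfold ev
  rw [res_res, res_self, appW_comp]

theorem ev_id (a : Γ(A, U)) : ev (𝟙 (rst U A)) a = a := by
  unfold ev
  rw [appW_id, res_res, res_self]

theorem ev_add (g : rst U A ⟶ rst U B) (a a' : Γ(A, U)) :
    ev g (a + a') = ev g a + ev g a' := by
  unfold ev
  rw [map_add, map_add, map_add]

theorem ev_add_left (g g' : rst U A ⟶ rst U B) (a : Γ(A, U)) :
    ev (g + g') a = ev g a + ev g' a := by
  unfold ev
  rw [appW_add, map_add]

theorem ev_smul (g : rst U A ⟶ rst U B) (r : Γ(X, U)) (a : Γ(A, U)) :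
    ev g (r • a) = r • ev g a := by
  unfold ev
  rw [res_smul, appW_smul, res_smul]
  congr 1
  have h2 : X.presheaf.map (homOfLE (image_top U).le).op ≫
      X.presheaf.map (homOfLE (image_top U).ge).op = 𝟙 _ := by
    rw [← Functor.map_comp, ← op_comp]
    exact X.presheaf.map_id _
  exact ConcreteCategory.congr_hom h2 r

/-- The unit section of the structure module. -/
noncomputable def one (U : X.Opens) : Γ(Coh.structureModule X, U) := (1 : Γ(X, U))

/-- A function as a section of the structure module. -/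
noncomputable def ofFun {U : X.Opens} : Γ(X, U) ≃+ Γ(Coh.structureModule X, U) := AddEquiv.refl _

theorem ofFun_one : ofFun (1 : Γ(X, U)) = one U := rfl

theorem ofFun_smul (r s : Γ(X, U)) : ofFun (r * s) = r • ofFun s := rfl

theorem ofFun_eq (r : Γ(X, U)) : ofFun r = r • one U := by
  rw [← ofFun_one, ← ofFun_smul, mul_one]

theorem res_ofFun {V : X.Opens} (h : V ≤ U) (r : Γ(X, U)) :
    res (Coh.structureModule X) h (ofFun r) = ofFun (X.presheaf.map (homOfLE h).op r) := rfl

theorem res_one {V : X.Opens} (h : V ≤ U) : res (Coh.structureModule X) h (one U) = one V := by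
  rw [← ofFun_one, res_ofFun, map_one, ofFun_one]

/-- The value at the unit section determines a morphism out of the restriction of `O_X`. -/
theorem hom_ext_ev {g h : rst U (Coh.structureModule X) ⟶ rst U M}
    (H : ev g (one U) = ev h (one U)) : g = h := by
  have h0 : appW g ⊤ (one _) = appW h ⊤ (one _) := by
    unfold ev at H
    rw [res_one] at H
    have h2 := congrArg (res M (image_top U).le) H
    rwa [res_res, res_res, res_self, res_self] at h2
  refine ext_appW fun W x => ?_
  obtain ⟨r, rfl⟩ := ofFun.surjective x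
  rw [ofFun_eq, appW_smul, appW_smul]
  congr 1
  have h1 := appW_res g (le_top : W ≤ ⊤) (one _)
  have h2 := appW_res h (le_top : W ≤ ⊤) (one _)
  rw [res_one] at h1 h2
  rw [h1, h2, h0]

/-- The morphism with a given value at the unit section. -/
noncomputable def ofSec (m : Γ(M, U)) : rst U (Coh.structureModule X) ⟶ rst U M :=
  homMk (fun W => ((rs U M W).symm.toAddMonoidHom.comp
      (((smulAddHom Γ(X, U.ι ''ᵁ W) Γ(M, U.ι ''ᵁ W)).flip (res M (U.ι_image_le W) m)).comp
        (ofFun.symm.toAddMonoidHom.comp (rs U (Coh.structureModule X) W).toAddMonoidHom))))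
    (by
      intro V W h s
      have h1 : ∀ r : Γ(X, U.ι ''ᵁ V), (X.presheaf.map (homOfLE (Scheme.Hom.image_mono U.ι h)).op r) •
        res M (U.ι_image_le W) m = res M (Scheme.Hom.image_mono U.ι h) (r • res M (U.ι_image_le V) m) := by
        intro r
        rw [res_smul, res_res]
      exact h1 _)
    (by
      intro W r s
      apply (rs U M W).injective
      rw [rs_smul]
      have h1 : ofFun.symm (rs U (Coh.structureModule X) W (r • s)) =
          ro U W r * ofFun.symm (rs U (Coh.structureModule X) W s) := by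
        rw [rs_smul]
        rfl
      change ofFun.symm (rs U (Coh.structureModule X) W (r • s)) • res M (U.ι_image_le W) m =
        ro U W r • ofFun.symm (rs U (Coh.structureModule X) W s) • res M (U.ι_image_le W) m
      rw [h1, mul_smul])

theorem ev_ofSec (m : Γ(M, U)) : ev (ofSec m) (one U) = m := by
  unfold ev
  rw [res_one]
  have h2 : appW (ofSec m) ⊤ (one _) = res M (U.ι_image_le ⊤) m :=
    one_smul Γ(X, U.ι ''ᵁ ⊤) (res M (U.ι_image_le ⊤) m)
  rw [h2, res_res, res_self]

end K592.AppR
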