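import Mathlib.AlgebraicGeometry.Scheme
import Mathlib.Topology.Sheaves.SheafCondition.Sites
import Mathlib.AlgebraicGeometry.AffineScheme

/-!
# An isomorphism of schemes from a homeomorphism and ring isomorphisms on a basis
-/

set_option autoImplicit false
universe u

open CategoryTheory CategoryTheory.Limits AlgebraicGeometry TopologicalSpace Opposite

namespace K592.SchIso

variable {X Y : Scheme.{u}} {ι : Type*} {B : ι → X.Opens} (hB : Opens.IsBasis (Set.range B))
  (b : Y.toTopCat ≅ X.toTopCat)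
  (σ : ∀ i, Γ(X, B i) →+* Γ(Y, (Opens.map b.hom).obj (B i)))
  (hσ : ∀ i j (h : B j ≤ B i) (s : Γ(X, B i)), σ j (X.presheaf.map (homOfLE h).op s) =
    Y.presheaf.map ((Opens.map b.hom).map (homOfLE h)).op (σ i s))
  (hbij : ∀ i, Function.Bijective (σ i))

/-- The sheaf `b_* O_Y`. -/
noncomputable abbrev pushO : TopCat.Sheaf CommRingCat.{u} X.toTopCat :=
  (TopCat.Sheaf.pushforward _ b.hom).obj Y.sheaf

/-- The natural transformation on the basis. -/
noncomputable def cB : (inducedFunctor B).op ⋙ X.presheaf ⟶ (inducedFunctor B).op ⋙ (pushO b).1 where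
  app i := CommRingCat.ofHom (σ i.unop)
  naturality i j f := by
    ext s
    exact hσ i.unop j.unop (leOfHom f.unop.hom) s

/-- The sheaf map. -/
noncomputable def cc : X.presheaf ⟶ (pushO b).1 :=
  TopCat.Sheaf.restrictHomEquivHom X.presheaf (pushO b) hB (cB b σ hσ)

theorem cc_app (i : ι) : (cc hB b σ hσ).app (op (B i)) = CommRingCat.ofHom (σ i) :=
  TopCat.Sheaf.extend_hom_app X.presheaf (pushO b) hB (cB b σ hσ) i

include hbij in
theorem isIso_cc : IsIso (cc hB b σ hσ) := by
  let φ : X.sheaf ⟶ pushO b := ⟨cc hB b σ hσ⟩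
  have h1 : IsIso φ := by
    refine TopCat.Sheaf.isIso_iff_isIso_basis hB fun i => ?_
    change IsIso ((cc hB b σ hσ).app (op (B i)))
    have h2 : IsIso (CommRingCat.ofHom (σ i)) :=
      (ConcreteCategory.isIso_iff_bijective (CommRingCat.ofHom (σ i))).2 (hbij i)
    rw [cc_app]
    exact h2
  exact inferInstanceAs (IsIso ((TopCat.Sheaf.forget _ _).map φ))

/-- The morphism of presheafed spaces. -/
noncomputable def gg : Y.toPresheafedSpace ⟶ X.toPresheafedSpace := ⟨b.hom, cc hB b σ hσ⟩

include hbij in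
theorem isIso_gg : IsIso (gg hB b σ hσ) := by
  have h1 : IsIso (gg hB b σ hσ).base := inferInstanceAs (IsIso b.hom)
  have h2 : IsIso (gg hB b σ hσ).c := isIso_cc hB b σ hσ hbij
  exact PresheafedSpace.isIso_of_components _

/-- The morphism of schemes. -/
noncomputable def ff : Y ⟶ X :=
  ⟨⟨gg hB b σ hσ, fun x => by
    have := isIso_gg hB b σ hσ hbij
    infer_instance⟩⟩

theorem isIso_ff : IsIso (ff hB b σ hσ hbij) := by
  have h1 : IsIso ((Scheme.forgetToLocallyRingedSpace ⋙ LocallyRingedSpace.forgetToSheafedSpace ⋙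
      SheafedSpace.forgetToPresheafedSpace).map (ff hB b σ hσ hbij)) := isIso_gg hB b σ hσ hbij
  exact isIso_of_reflects_iso _ (Scheme.forgetToLocallyRingedSpace ⋙
    LocallyRingedSpace.forgetToSheafedSpace ⋙ SheafedSpace.forgetToPresheafedSpace)

theorem ff_apply (y : Y) : ff hB b σ hσ hbij y = b.hom y := rfl

theorem ff_preimage (U : X.Opens) : ff hB b σ hσ hbij ⁻¹ᵁ U = (Opens.map b.hom).obj U := rfl

theorem ff_app (i : ι) (s : Γ(X, B i)) : (ff hB b σ hσ hbij).app (B i) s = σ i s := by
  have h1 : (ff hB b σ hσ hbij).app (B i) = (cc hB b σ hσ).app (op (B i)) := rfl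
  rw [h1, cc_app]
  rfl

end K592.SchIso
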