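import Groth.Agent.FunMor.K592.Theta
import Groth.Agent.FunMor.K592.SchIso
import Groth.Agent.Sga67.Sec
import Groth.Agent.Ega1.QcqsPush

/-!
# Equivalences preserving the structure sheaf come from isomorphisms
-/

set_option autoImplicit false
universe u

open CategoryTheory CategoryTheory.Limits AlgebraicGeometry TopologicalSpace Opposite
open Groth.Agent.Sga67.Sec

namespace K592.CaseO

open K658.LocOpen K658.PushPull K658.ZeroOn K658.Abel K592.Localizing K592.OpenQ K592.SuppGen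
  K592.Corr K592.Psi K592.Theta QCohCat

/-- Quasi-compact opens. -/
abbrev Idx (X : Scheme.{u}) : Type u := {U : X.Opens // IsCompact (U : Set X)}

/-- Quasi-compact opens. -/
abbrev Bx {X : Scheme.{u}} (i : Idx X) : X.Opens := i.1

theorem isBasis_Bx (X : Scheme.{u}) : Opens.IsBasis (Set.range (Bx (X := X))) := by
  rw [Opens.isBasis_iff_nbhd]
  intro U x hx
  obtain ⟨W, hW, hxW, hWU⟩ := exists_isAffineOpen_mem_and_subset (x := x) (U := U) hx
  exact ⟨W, ⟨⟨W, hW.isCompact⟩, rfl⟩, hxW, hWU⟩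

instance quasiCompact_Bx {X : Scheme.{u}} [QuasiSeparatedSpace X] (i : Idx X) :
    QuasiCompact (Bx i).ι := by
  have : CompactSpace (↑(Bx i) : Scheme.{u}) := isCompact_iff_compactSpace.1 i.2
  infer_instance

variable {X Y : Scheme.{u}} [CompactSpace X] [QuasiSeparatedSpace X] [CompactSpace Y]
  [QuasiSeparatedSpace Y] (Φ : QCoh X ≌ QCoh Y)

/-- The homeomorphism. -/
noncomputable def hY : (Y : Type u) ≃ₜ (X : Type u) :=
  OpensHomeo.homeo (X := X) (Y := Y) (opensIso Φ)

/-- The homeomorphism. -/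
noncomputable def bY : Y.toTopCat ≅ X.toTopCat :=
  TopCat.isoOfHomeo (hY Φ)

/-- The corresponding open. -/
noncomputable abbrev pre (U : X.Opens) : Y.Opens := (Opens.map (bY Φ).hom).obj U

theorem map_bY (U : X.Opens) : (Opens.map (bY Φ).hom).obj U = opensIso Φ U := by
  ext y
  exact OpensHomeo.homeo_mem_iff (X := X) (Y := Y) (opensIso Φ) y U

theorem match_bY (U : X.Opens) : Match Φ U ((Opens.map (bY Φ).hom).obj U) := by
  rw [map_bY]
  exact corr_opensIso Φ U

theorem isCompact_map (i : Idx X) : IsCompact (pre Φ (Bx i) : Set Y) :=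
  (hY Φ).isCompact_preimage.2 i.2

instance quasiCompact_map (i : Idx X) : QuasiCompact (pre Φ (Bx i)).ι := by
  have : CompactSpace (↑(pre Φ (Bx i)) : Scheme.{u}) :=
    isCompact_iff_compactSpace.1 (isCompact_map Φ i)
  infer_instance

variable {Φ} (ε : Φ.functor.obj (OQ X) ≅ OQ Y)

/-- The ring maps. -/
noncomputable def sigR (i : Idx X) : Γ(X, Bx i) →+* Γ(Y, (Opens.map (bY Φ).hom).obj (Bx i)) where
  toFun := sig ε (match_bY Φ (Bx i))
  map_one' := sig_one ε _
  map_mul' := sig_mul ε _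
  map_zero' := by
    have h := sig_add ε (match_bY Φ (Bx i)) 0 0
    rw [add_zero] at h
    simpa using h
  map_add' := sig_add ε _

/-- The morphism of schemes. -/
noncomputable def fY : Y ⟶ X :=
  SchIso.ff (isBasis_Bx X) (bY Φ) (sigR ε)
    (fun i j h s => sig_res ε (match_bY Φ (Bx i)) (match_bY Φ (Bx j)) h _ s)
    (fun _ => sig_bijective ε _)

instance isIso_fY : IsIso (fY ε) := SchIso.isIso_ff _ _ _ _ _

theorem fY_preimage (U : X.Opens) : fY ε ⁻¹ᵁ U = (Opens.map (bY Φ).hom).obj U := rfl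

theorem fY_app (i : Idx X) (s : Γ(X, Bx i)) :
    (fY ε).app (Bx i) s = sig ε (match_bY Φ (Bx i)) s :=
  SchIso.ff_app _ _ _ _ _ i s

/-- The maps on sections, as linear maps into the direct image. -/
noncomputable def thL (M : QCoh X) (i : Idx X) : Sec M.obj (Bx i) →ₗ[Γ(X, Bx i)]
    Sec ((Scheme.Modules.pushforward (fY ε)).obj (Φ.functor.obj M).obj) (Bx i) where
  toFun := theta ε (match_bY Φ (Bx i)) M
  map_add' := theta_add ε _ M
  map_smul' r m := by
    have h1 := theta_smul ε (match_bY Φ (Bx i)) M r m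
    rw [← fY_app] at h1
    exact h1

theorem exists_al (M : QCoh X) :
    ∃ α : M.obj ⟶ (Scheme.Modules.pushforward (fY ε)).obj (Φ.functor.obj M).obj,
      ∀ i (s : Sec M.obj (Bx i)), appS α (Bx i) s = thL ε M i s := by
  refine exists_hom_of_basis' (isBasis_Bx X) _ _ (thL ε M) fun i j h s => ?_
  exact theta_res ε (match_bY Φ (Bx i)) (match_bY Φ (Bx j)) h _ M s

/-- The comparison map. -/
noncomputable def al (M : QCoh X) :
    M.obj ⟶ (Scheme.Modules.pushforward (fY ε)).obj (Φ.functor.obj M).obj :=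
  (exists_al ε M).choose

theorem al_app (M : QCoh X) (i : Idx X) (s : Sec M.obj (Bx i)) :
    appS (al ε M) (Bx i) s = thL ε M i s := (exists_al ε M).choose_spec i s

theorem al_bijective (M : QCoh X) (i : Idx X) : Function.Bijective (appS (al ε M) (Bx i)) := by
  have h1 : ⇑(appS (al ε M) (Bx i)) = theta ε (match_bY Φ (Bx i)) M := by
    funext s
    exact al_app ε M i s
  rw [h1]
  exact theta_bijective ε _ M

instance isIso_al (M : QCoh X) : IsIso (al ε M) := by
  have h1 : Mono (al ε M) := by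
    refine mono_of_locally_injective _ fun x U hx => ?_
    obtain ⟨V, ⟨i, rfl⟩, hxV, hV⟩ := Opens.isBasis_iff_nbhd.mp (isBasis_Bx X) hx
    exact ⟨Bx i, hV, hxV, fun s hs => (al_bijective ε M i).1 (by rw [hs, map_zero])⟩
  have h2 : Epi (al ε M) := by
    refine epi_of_locally_surjective _ fun U s x hx => ?_
    obtain ⟨V, ⟨i, rfl⟩, hxV, hV⟩ := Opens.isBasis_iff_nbhd.mp (isBasis_Bx X) hx
    obtain ⟨t, ht⟩ := (al_bijective ε M i).2 (res _ hV s)
    exact ⟨Bx i, hV, hxV, t, ht⟩
  exact isIso_of_mono_of_epi _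

theorem al_nat {M N : QCoh X} (k : M ⟶ N) :
    k.hom ≫ al ε N = al ε M ≫ (Scheme.Modules.pushforward (fY ε)).map (Φ.functor.map k).hom := by
  refine hom_ext_of_locally fun x U hx => ?_
  obtain ⟨V, ⟨i, rfl⟩, hxV, hV⟩ := Opens.isBasis_iff_nbhd.mp (isBasis_Bx X) hx
  refine ⟨Bx i, hV, hxV, fun s => ?_⟩
  rw [appS_comp, appS_comp, al_app, al_app]
  exact theta_nat ε (match_bY Φ (Bx i)) k s

/-- The comparison isomorphism of functors. -/
noncomputable def alIso : (isQCoh X).ι ≅
    (Φ.functor ⋙ (isQCoh Y).ι) ⋙ Scheme.Modules.pushforward (fY ε) :=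
  NatIso.ofComponents (fun M => asIso (al ε M)) (fun k => al_nat ε k)

include ε in
theorem main : ∃ f : Y ≅ X, Nonempty (Φ.functor ⋙ (isQCoh Y).ι ≅
    (isQCoh X).ι ⋙ Scheme.Modules.pullback f.hom) := by
  refine ⟨asIso (fY ε), ⟨?_⟩⟩
  have e1 : Scheme.Modules.pushforward (fY ε) ⋙ Scheme.Modules.pullback (fY ε) ≅ 𝟭 _ :=
    Functor.isoWhiskerLeft _ (Scheme.Modules.restrictFunctorIsoPullback (fY ε)).symm ≪≫
      Scheme.Modules.restrictFunctorAdjCounitIso (fY ε)
  exact (Functor.rightUnitor _).symm ≪≫ Functor.isoWhiskerLeft (Φ.functor ⋙ (isQCoh Y).ι) e1.symm ≪≫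
    (Functor.associator _ _ _).symm ≪≫
    Functor.isoWhiskerRight (alIso ε).symm (Scheme.Modules.pullback (fY ε))

end K592.CaseO
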