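import Mathlib.Topology.Sober
import Mathlib.Topology.Sets.Opens
import Mathlib.Topology.Homeomorph.Defs

/-!
# A homeomorphism of sober spaces from an isomorphism of their lattices of opens
-/

set_option autoImplicit false

open TopologicalSpace

namespace K592.OpensHomeo

variable {X Y : Type*} [TopologicalSpace X] [TopologicalSpace Y]

/-- Points of a sober space from an isomorphism of lattices of opens. -/
theorem exists_point [QuasiSober X] (e : Opens X ≃o Opens Y) (y : Y) :
    ∃ x : X, ∀ U : Opens X, x ∈ U ↔ y ∈ e U := by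
  let W : Opens Y := ⟨(closure {y})ᶜ, isClosed_closure.isOpen_compl⟩
  have hW : ∀ V : Opens Y, V ≤ W ↔ y ∉ V := by
    intro V
    constructor
    · intro h hy
      exact h hy (subset_closure rfl)
    · intro hy z hz hz'
      apply hy
      rw [mem_closure_iff] at hz'
      obtain ⟨w, hw1, hw2⟩ := hz' V V.2 hz
      rw [Set.mem_singleton_iff] at hw2
      rwa [← hw2]
  have hU : ∀ U : Opens X, U ≤ e.symm W ↔ y ∉ e U := by
    intro U
    rw [← hW, OrderIso.le_symm_apply]
  let C : Set X := ((e.symm W : Opens X) : Set X)ᶜ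
  have hCc : IsClosed C := (e.symm W).2.isClosed_compl
  have key : ∀ U : Opens X, (C ∩ U).Nonempty ↔ y ∈ e U := by
    intro U
    rw [← not_iff_not, ← hU]
    constructor
    · intro h x hx
      by_contra hx'
      exact h ⟨x, hx', hx⟩
    · rintro h ⟨x, hx1, hx2⟩
      exact hx1 (h hx2)
  have hirr : IsIrreducible C := by
    constructor
    · obtain ⟨x, hx, -⟩ := (key ⊤).2 (by rw [map_top]; trivial)
      exact ⟨x, hx⟩
    · intro A B hA hB h1 h2
      have h1' := (key ⟨A, hA⟩).1 h1
      have h2' := (key ⟨B, hB⟩).1 h2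
      have h3 := (key (⟨A, hA⟩ ⊓ ⟨B, hB⟩)).2 (by rw [map_inf]; exact ⟨h1', h2'⟩)
      exact h3
  obtain ⟨x, hx⟩ := QuasiSober.sober hirr hCc
  refine ⟨x, fun U => ?_⟩
  rw [← key U]
  constructor
  · intro hxU
    exact ⟨x, hx.mem, hxU⟩
  · rintro ⟨z, hz, hzU⟩
    rw [← hx.def] at hz
    rw [mem_closure_iff] at hz
    obtain ⟨w, hw1, hw2⟩ := hz U U.2 hzU
    rw [Set.mem_singleton_iff] at hw2
    rwa [← hw2]

/-- The map on points. -/
noncomputable def pt [QuasiSober X] (e : Opens X ≃o Opens Y) (y : Y) : X := (exists_point e y).choose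

theorem pt_mem_iff [QuasiSober X] (e : Opens X ≃o Opens Y) (y : Y) (U : Opens X) :
    pt e y ∈ U ↔ y ∈ e U := (exists_point e y).choose_spec U

theorem eq_of_mem_iff [T0Space X] {x x' : X} (h : ∀ U : Opens X, x ∈ U ↔ x' ∈ U) : x = x' := by
  apply Inseparable.eq
  rw [inseparable_iff_forall_isOpen]
  intro s hs
  exact h ⟨s, hs⟩

/-- The homeomorphism. -/
noncomputable def homeo [QuasiSober X] [QuasiSober Y] [T0Space X] [T0Space Y]
    (e : Opens X ≃o Opens Y) : Y ≃ₜ X where
  toFun := pt e
  invFun := pt e.symm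
  left_inv y := by
    apply eq_of_mem_iff
    intro U
    rw [pt_mem_iff, pt_mem_iff, OrderIso.apply_symm_apply]
  right_inv x := by
    apply eq_of_mem_iff
    intro U
    rw [pt_mem_iff, pt_mem_iff, OrderIso.symm_apply_apply]
  continuous_toFun := by
    rw [continuous_def]
    intro s hs
    have : pt e ⁻¹' s = (e ⟨s, hs⟩ : Set Y) := by
      ext y
      exact pt_mem_iff e y ⟨s, hs⟩
    rw [this]
    exact (e ⟨s, hs⟩).2
  continuous_invFun := by
    rw [continuous_def]
    intro s hs
    have : pt e.symm ⁻¹' s = (e.symm ⟨s, hs⟩ : Set X) := by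
      ext y
      exact pt_mem_iff e.symm y ⟨s, hs⟩
    rw [this]
    exact (e.symm ⟨s, hs⟩).2

theorem homeo_mem_iff [QuasiSober X] [QuasiSober Y] [T0Space X] [T0Space Y]
    (e : Opens X ≃o Opens Y) (y : Y) (U : Opens X) : homeo e y ∈ U ↔ y ∈ e U :=
  pt_mem_iff e y U

end K592.OpensHomeo
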