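import Groth.Agent.FunMor.K592.SuppGen
import Groth.Agent.FunMor.K592.OpensHomeo
import Groth.Agent.S0020
import Groth.Agent.S2214
import Groth.Agent.Models2.FPCoh

/-!
# The bijection of opens induced by an equivalence of categories of quasi-coherent modules
-/

set_option autoImplicit false
universe u

open CategoryTheory CategoryTheory.Limits AlgebraicGeometry TopologicalSpace Opposite

namespace K592.Corr

open K658.LocOpen K658.PushPull K658.ZeroOn K658.Abel K592.Localizing K592.OpenQ K592.SuppGen QCohCat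

variable {X Y : Scheme.{u}}

/-- Inverse image of a localizing class. -/
theorem comap {C D : Type (u + 1)} [Category.{u} C] [Category.{u} D] [Abelian C]
    [Abelian D] (G : C ⥤ D) [PreservesFiniteLimits G] [PreservesFiniteColimits G]
    [PreservesColimitsOfSize.{u, u} G] {P : ObjectProperty D} (hP : IsLocalizing P) :
    IsLocalizing (P.inverseImage G) := by
  have : G.Additive := Functor.additive_of_preserves_binary_products _
  constructor
  · intro S hS
    exact hP.serre _ (hS.map_of_exact G)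
  · intro ι M _ hM
    have hc := isColimitOfPreserves G (coproductIsCoproduct M)
    have hc' := isColimitMapCoconeCofanMkEquiv G M (Sigma.ι M) hc
    have : HasCoproduct fun i => G.obj (M i) := ⟨⟨⟨_, hc'⟩⟩⟩
    exact hP.iso ((coproductIsCoproduct _).coconePointUniqueUpToIso hc')
      (hP.sum ι (fun i => G.obj (M i)) hM)

/-- A quasi-coherent module with given closed support. -/
theorem exists_support (U : X.Opens) :
    ∃ M : QCoh X, CohB1.support M.obj = (U : Set X)ᶜ := by
  let J : X.IdealSheafData := Scheme.IdealSheafData.vanishingIdeal ⟨(U : Set X)ᶜ, U.2.isClosed_compl⟩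
  have hJ : (J.support : Set X) = (U : Set X)ᶜ := by
    rw [Scheme.IdealSheafData.coe_support_vanishingIdeal]
    rfl
  have hO : Coh.IsQCoh (Coh.structureModule X) := Groth.Agent.PerfA.QCohSerre.isQCoh_unit X
  have hk := Groth.Agent.FormalB.TrKQuot.isKQuot_kπ J hO
  have hq := Groth.Agent.FormalB.TrKQuot.isQCoh_kq J hO
  refine ⟨⟨_, hq⟩, ?_⟩
  rw [← hJ]
  ext x
  obtain ⟨W, hW, hxW, -⟩ := exists_isAffineOpen_mem_and_subset (x := x) (U := ⊤) trivial
  rw [SuppAff.mem_support_iff _ hq hW x hxW]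
  let l : Γ(X, W) →ₗ[Γ(X, W)] Γ(Groth.Agent.FormalB.TrKQuot.kq J (Coh.structureModule X), W) :=
    { toFun := (Groth.Agent.FormalB.TrKQuot.kπ J (Coh.structureModule X)).app W
      map_add' := map_add _
      map_smul' := fun r s => Scheme.Modules.Hom.app_smul _ _ _ }
  have hl : Function.Surjective l := Groth.Agent.FormalB.TrKQuot.IsKQuot.app_surjective hk hO hW
  have hker : LinearMap.ker l = J.ideal ⟨W, hW⟩ := by
    ext s
    have h1 := Groth.Agent.FormalB.TrKQuot.IsKQuot.app_eq_zero_iff hk hO ⟨W, hW⟩ s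
    have h2 : (J.ideal ⟨W, hW⟩ • (⊤ : Submodule Γ(X, W) Γ(X, W))) = J.ideal ⟨W, hW⟩ := by
      simp
    change _ ↔ s ∈ J.ideal ⟨W, hW⟩
    rw [← h2]
    exact h1
  have e := (Submodule.quotEquivOfEq _ _ hker.symm).trans (l.quotKerEquivOfSurjective hl)
  rw [← e.support_eq]
  change _ ∈ Module.support Γ(X, W) (Γ(X, W) ⧸ J.ideal ⟨W, hW⟩) ↔ _
  have h1 : x ∈ (J.support : Set X) ↔ x ∈ X.zeroLocus (U := W) (J.ideal ⟨W, hW⟩) :=
    J.mem_support_iff_of_mem (U := ⟨W, hW⟩) hxW
  rw [h1, Module.support_eq_zeroLocus, Ideal.annihilator_quotient, PrimeSpectrum.mem_zeroLocus,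
    Scheme.mem_zeroLocus_iff]
  constructor
  · intro h f hf
    exact (SuppAff.mem_primeIdealOf_iff hW x hxW f).1 (h hf)
  · intro h f hf
    exact (SuppAff.mem_primeIdealOf_iff hW x hxW f).2 (h f hf)

theorem le_of_SQ_le {U V : X.Opens} (h : ∀ M : QCoh X, SQ U M → SQ V M) : V ≤ U := by
  obtain ⟨M, hM⟩ := exists_support U
  have h1 : SQ U M := by rw [SQ_iff_support, hM]
  have h2 := h M h1
  rw [SQ_iff_support, hM, Set.compl_subset_compl] at h2
  exact h2

theorem SQ_iff_compact (U : X.Opens) (M : QCoh X) :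
    SQ U M ↔ ∀ V : X.Opens, IsCompact (V : Set X) → V ≤ U → SQ V M := by
  constructor
  · intro h V _ hV
    exact SQ_mono hV h
  · intro h
    rw [SQ_iff_support]
    intro x hx hxU
    obtain ⟨W, hW, hxW, hWU⟩ := exists_isAffineOpen_mem_and_subset (x := x) (U := U) hxU
    exact (SQ_iff_support W M).1 (h W hW.isCompact hWU) hx hxW

variable (Φ : QCoh X ≌ QCoh Y)

/-- The opens `U` and `V` correspond to each other under `Φ`. -/
def Match (U : X.Opens) (V : Y.Opens) : Prop :=
  ∀ M : QCoh X, SQ U M ↔ SQ V (Φ.functor.obj M)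

variable {Φ}

theorem Match.symm {U : X.Opens} {V : Y.Opens} (h : Match Φ U V) : Match Φ.symm V U := by
  intro N
  have h1 := h (Φ.inverse.obj N)
  have e : Φ.functor.obj (Φ.inverse.obj N) ≅ N := Φ.counitIso.app N
  change SQ V N ↔ SQ U (Φ.inverse.obj N)
  rw [h1]
  exact ⟨fun h => (isLocalizing_SQ V).iso e.symm h, fun h => (isLocalizing_SQ V).iso e h⟩

theorem Match.le_iff {U U' : X.Opens} {V V' : Y.Opens} (h : Match Φ U V) (h' : Match Φ U' V') :
    U ≤ U' ↔ V ≤ V' := by
  constructor
  · intro hle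
    refine le_of_SQ_le fun N hN => ?_
    exact (h.symm N).2 (SQ_mono hle ((h'.symm N).1 hN))
  · intro hle
    refine le_of_SQ_le fun M hM => ?_
    exact (h M).2 (SQ_mono hle ((h' M).1 hM))

variable [CompactSpace X] [QuasiSeparatedSpace X] [CompactSpace Y] [QuasiSeparatedSpace Y]

variable (Φ) in
theorem exists_corr_of_isCompact (U : X.Opens) (hU : IsCompact (U : Set X)) :
    ∃ V : Y.Opens, Match Φ U V := by
  obtain ⟨G, hG, hGf, hGs⟩ := SuppAff.exists_fp_support U hU
  let G' : QCoh X := ⟨G, hG⟩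
  have h1 : IsFinitelyPresentable.{u} G' := (Groth.Agent.S2214.result X G').2 hGf
  have h2 : IsFinitelyPresentable.{u} (Φ.functor.obj G') := by
    exact inferInstance
  have h3 : CohB1.IsFP (Φ.functor.obj G').obj := (Groth.Agent.S2214.result Y _).1 h2
  have h4 : IsClosed (CohB1.support (Φ.functor.obj G').obj) :=
    Groth.Agent.S0020.result Y _ (Groth.Agent.Models2.FPCoh.isFT_of_isFP h3)
  let V : Y.Opens := ⟨(CohB1.support (Φ.functor.obj G').obj)ᶜ, h4.isOpen_compl⟩
  have hV : CohB1.support (Φ.functor.obj G').obj = (V : Set Y)ᶜ := by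
    change _ = (CohB1.support (Φ.functor.obj G').obj)ᶜᶜ
    rw [compl_compl]
  refine ⟨V, fun M => ⟨fun hM => ?_, fun hM => ?_⟩⟩
  · have hs : CohB1.support M.obj ⊆ CohB1.support G'.obj := by
      change _ ⊆ CohB1.support G
      rw [hGs]
      exact (SQ_iff_support U M).1 hM
    refine gen G' hGf _ (comap Φ.functor (isLocalizing_SQ V)) ?_ M hs
    change SQ V (Φ.functor.obj G')
    rw [SQ_iff_support, hV]
  · have hs : CohB1.support (Φ.functor.obj M).obj ⊆ CohB1.support (Φ.functor.obj G').obj := by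
      rw [hV]
      exact (SQ_iff_support V _).1 hM
    have h5 := gen (Φ.functor.obj G') h3 _ (comap Φ.inverse (isLocalizing_SQ U)) ?_ _ hs
    · exact (isLocalizing_SQ U).iso (Φ.unitIso.app M).symm h5
    · refine (isLocalizing_SQ U).iso (Φ.unitIso.app G') ?_
      rw [SQ_iff_support]
      change CohB1.support G ⊆ _
      rw [hGs]

variable (Φ) in
theorem exists_corr (U : X.Opens) : ∃ V : Y.Opens, Match Φ U V := by
  let I := {W : X.Opens // IsCompact (W : Set X) ∧ W ≤ U}
  choose V hV using fun i : I => exists_corr_of_isCompact Φ i.1 i.2.1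
  refine ⟨⨆ i, V i, fun M => ?_⟩
  constructor
  · intro hM
    rw [SQ_iff_support]
    intro y hy hyV
    obtain ⟨i, hi⟩ := Opens.mem_iSup.1 hyV
    exact (SQ_iff_support _ _).1 ((hV i M).1 (SQ_mono i.2.2 hM)) hy hi
  · intro hM
    rw [SQ_iff_compact]
    intro W hW hWU
    rw [hV ⟨W, hW, hWU⟩ M]
    exact SQ_mono (le_iSup V ⟨W, hW, hWU⟩) hM

/-- The isomorphism of lattices of opens. -/
noncomputable def opensIso (Φ : QCoh X ≌ QCoh Y) : X.Opens ≃o Y.Opens where
  toFun U := (exists_corr Φ U).choose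
  invFun V := (exists_corr Φ.symm V).choose
  left_inv U := by
    have h1 := (exists_corr Φ U).choose_spec
    have h2 := (exists_corr Φ.symm (exists_corr Φ U).choose).choose_spec
    have h3 : Match Φ _ _ := h2.symm
    exact le_antisymm ((h3.le_iff h1).2 le_rfl) ((h1.le_iff h3).2 le_rfl)
  right_inv V := by
    have h1 := (exists_corr Φ.symm V).choose_spec
    have h2 := (exists_corr Φ (exists_corr Φ.symm V).choose).choose_spec
    have h3 : Match Φ _ _ := h1.symm
    exact le_antisymm ((h2.le_iff h3).1 le_rfl) ((h3.le_iff h2).1 le_rfl)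
  map_rel_iff' {U U'} := by
    exact ((exists_corr Φ U).choose_spec.le_iff (exists_corr Φ U').choose_spec).symm

theorem corr_opensIso (Φ : QCoh X ≌ QCoh Y) (U : X.Opens) : Match Φ U (opensIso Φ U) :=
  (exists_corr Φ U).choose_spec

end K592.Corr
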