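import Groth.Agent.FunMor.K592.Morita
import Groth.Agent.FunMor.K592.CaseO
import Groth.Agent.Models2.QCohPush
import Groth.Agent.Ega1.QAlg
import Groth.Agent.PicLoc.K730.PicSpec
import Groth.Agent.CalgB.AmpleRel
import Groth.Agent.S2198
import Groth.Agent.PicF.K246.Basic
import Groth.Agent.PicF.K245.DescUnit

/-!
# The image of the structure sheaf is invertible
-/

set_option autoImplicit false
universe u

open CategoryTheory CategoryTheory.Limits AlgebraicGeometry TopologicalSpace Opposite

namespace K592.Linv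

open K658.LocOpen K658.PushPull K658.ZeroOn K658.Abel K592.Localizing K592.OpenQ K592.SuppGen
  K592.Corr K592.Psi K592.Theta QCohCat

section affine

variable {R : CommRingCat.{u}} {X : Scheme.{u}} (f : Spec R ⟶ X) [IsIso f]

instance isEquivalence_restrictQ {Z Y : Scheme.{u}} (f : Z ⟶ Y) [IsIso f] :
    (Groth.Agent.Models2.QCohPush.restrictQ f).IsEquivalence := by
  have hfa : (Groth.Agent.Models2.QCohPush.restrictQ f).Faithful := ⟨fun {M N} a b h => by
    apply ObjectProperty.hom_ext
    apply (Scheme.Modules.restrictFunctor f).map_injective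
    exact congrArg (fun k => k.hom) h⟩
  have hfu : (Groth.Agent.Models2.QCohPush.restrictQ f).Full := ⟨fun {M N} a => by
    obtain ⟨b, hb⟩ := (Scheme.Modules.restrictFunctor f).map_surjective a.hom
    refine ⟨ObjectProperty.homMk b, ?_⟩
    apply ObjectProperty.hom_ext
    exact hb⟩
  have hes : (Groth.Agent.Models2.QCohPush.restrictQ f).EssSurj := ⟨fun N =>
    ⟨(Groth.Agent.Models2.QCohPush.pushQ f).obj N,
      ⟨ObjectProperty.isoMk _ ((asIso (Scheme.Modules.restrictAdjunction f).counit).app N.obj)⟩⟩⟩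
  exact {}

/-- Quasi-coherent modules on an affine scheme as modules over a ring. -/
noncomputable def affE : QCoh X ≌ ModuleCat.{u} R :=
  (Groth.Agent.Models2.QCohPush.restrictQ f).asEquivalence.trans
    (Groth.Agent.Models2.QCohPush.tildeQ R).symm

/-- It sends the structure sheaf to the ring. -/
noncomputable def affEO : (affE f).functor.obj (OQ X) ≅ ModuleCat.of R R :=
  Groth.Agent.Models2.QCohPush.ΓOIso f

end affine

section loc

variable {X Y : Scheme.{u}} {Φ : QCoh X ≌ QCoh Y} {U : X.Opens} {V : Y.Opens} (h : Match Φ U V)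
  [QuasiCompact U.ι] [QuasiCompact V.ι]

/-- The equivalence over corresponding opens. -/
noncomputable def eqv : QCoh (↑U : Scheme.{u}) ≌ QCoh (↑V : Scheme.{u}) :=
  have := isLocalization_comp h
  Localization.uniq (restrictQ U) (Φ.functor ⋙ restrictQ V) (WQ U)

/-- Its compatibility with the restrictions. -/
noncomputable def eqvIso : restrictQ U ⋙ (eqv h).functor ≅ Φ.functor ⋙ restrictQ V :=
  have := isLocalization_comp h
  Localization.compUniqFunctor (restrictQ U) (Φ.functor ⋙ restrictQ V) (WQ U)

/-- The restriction of the structure sheaf. -/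
noncomputable def OQres (U : X.Opens) : (restrictQ U).obj (OQ X) ≅ OQ (↑U : Scheme.{u}) :=
  ObjectProperty.isoMk _ (Scheme.Modules.restrictUnitIso U.ι)

/-- The image of the structure sheaf. -/
noncomputable def eqvO :
    (eqv h).functor.obj (OQ (↑U : Scheme.{u})) ≅ (restrictQ V).obj (Φ.functor.obj (OQ X)) :=
  (eqv h).functor.mapIso (OQres U).symm ≪≫ (eqvIso h).app (OQ X)

end loc

section main

variable {X Y : Scheme.{u}} [CompactSpace X] [QuasiSeparatedSpace X] [CompactSpace Y]
  [QuasiSeparatedSpace Y] (Φ : QCoh X ≌ QCoh Y)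

theorem isInvertible_of_restrict_iso {Z T : Scheme.{u}} (f : Z ⟶ T) [IsIso f] (M : T.Modules)
    (h : PicF.IsInvertible (M.restrict f)) : PicF.IsInvertible M :=
  K245.DescUnit.isInvertible_of_iso
    ((Groth.Agent.Ega1.QAlg.restrictEquivOfIso (asIso f)).unitIso.symm.app M)
    (K246.Basic.isInvertible_restrict h (inv f))

omit [CompactSpace Y] [QuasiSeparatedSpace Y] in
theorem isInvertible_affine {U : X.Opens} {V : Y.Opens} (h : Match Φ U V) [QuasiCompact U.ι]
    [QuasiCompact V.ι] [IsAffine V] :
    PicF.IsInvertible ((Φ.functor.obj (OQ X)).obj.restrict V.ι) := by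
  let f : Spec Γ(V, ⊤) ⟶ V := V.toScheme.isoSpec.inv
  have hf : IsIso f := inferInstanceAs (IsIso V.toScheme.isoSpec.inv)
  let E := (eqv h).trans (affE f)
  have hUc : CompactSpace (↑U : Scheme.{u}) := isCompact_univ_iff.1
    (by simpa using QuasiCompact.isCompact_preimage (f := U.ι) _ isOpen_univ isCompact_univ)
  have hUq : QuasiSeparatedSpace (↑U : Scheme.{u}) := U.ι.isOpenEmbedding.quasiSeparatedSpace
  have hUa : IsAffine (↑U : Scheme.{u}) := Groth.Agent.S2198.result _ _ E
  let g : Spec Γ(U, ⊤) ⟶ U := U.toScheme.isoSpec.inv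
  have hg : IsIso g := inferInstanceAs (IsIso U.toScheme.isoSpec.inv)
  let F := (affE g).symm.trans E
  have hF := K592.Morita.invertible_of_equiv F
  let e1 : F.functor.obj (ModuleCat.of Γ(U, ⊤) Γ(U, ⊤)) ≅
      (affE f).functor.obj ((restrictQ V).obj (Φ.functor.obj (OQ X))) :=
    F.functor.mapIso (affEO g).symm ≪≫ E.functor.mapIso ((affE g).unitIso.symm.app _) ≪≫
      (affE f).functor.mapIso (eqvO h)
  let e2 := (isQCoh _).ι.mapIso ((Groth.Agent.Models2.QCohPush.tildeQ Γ(V, ⊤)).functor.mapIso e1 ≪≫
    (Groth.Agent.Models2.QCohPush.tildeQ Γ(V, ⊤)).counitIso.app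
      ((Groth.Agent.Models2.QCohPush.restrictQ f).obj ((restrictQ V).obj (Φ.functor.obj (OQ X)))))
  exact isInvertible_of_restrict_iso f _ (K245.DescUnit.isInvertible_of_iso e2
    (K730.PicSpec.isInvertible_tilde Γ(V, ⊤) (F.functor.obj (ModuleCat.of Γ(U, ⊤) Γ(U, ⊤)))))

/-- The image of the structure sheaf is invertible. -/
theorem isInvertible : PicF.IsInvertible (Φ.functor.obj (OQ X)).obj := by
  refine Groth.Agent.CalgB.AmpleRel.isInvertible_of_restrict fun y => ?_
  obtain ⟨V, hV, hyV, -⟩ := exists_isAffineOpen_mem_and_subset (X := Y) (x := y) (U := ⊤) trivial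
  have hVc : QuasiCompact V.ι := by
    have : CompactSpace (↑V : Scheme.{u}) := isCompact_iff_compactSpace.1 hV.isCompact
    infer_instance
  have hm : Match Φ ((opensIso Φ).symm V) V := by
    have := corr_opensIso Φ ((opensIso Φ).symm V)
    rwa [OrderIso.apply_symm_apply] at this
  have hUc : QuasiCompact ((opensIso Φ).symm V).ι := by
    have h1 : IsCompact (((opensIso Φ).symm V : X.Opens) : Set X) := by
      rw [← (K592.CaseO.hY Φ).isCompact_preimage]
      have h2 := congrArg (fun W : Y.Opens => (W : Set Y)) (K592.CaseO.map_bY Φ ((opensIso Φ).symm V))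
      have h3 : (K592.CaseO.hY Φ) ⁻¹' (((opensIso Φ).symm V : X.Opens) : Set X) = (V : Set Y) := by
        refine h2.trans ?_
        rw [OrderIso.apply_symm_apply]
      rw [h3]
      exact hV.isCompact
    have : CompactSpace (↑((opensIso Φ).symm V) : Scheme.{u}) := isCompact_iff_compactSpace.1 h1
    infer_instance
  have : IsAffine V := hV
  exact ⟨V, hyV, isInvertible_affine Φ hm⟩

end main

end K592.Linv
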