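import Mathlib.CategoryTheory.Abelian.GrothendieckCategory.EnoughInjectives
import Mathlib.CategoryTheory.Abelian.GrothendieckCategory.Subobject
import Mathlib.CategoryTheory.Abelian.Basic
import Mathlib.CategoryTheory.Subobject.WellPowered

/-!
# Localizing classes in Grothendieck abelian categories
-/

set_option autoImplicit false
universe u v

open CategoryTheory CategoryTheory.Limits

namespace K592.Localizing

section Def

variable {C : Type v} [Category.{u} C] [Abelian C]

/-- A Serre class closed under (small) direct sums. -/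
structure IsLocalizing (P : ObjectProperty C) : Prop where
  serre : ∀ S : ShortComplex C, S.ShortExact → (P S.X₂ ↔ P S.X₁ ∧ P S.X₃)
  sum : ∀ (ι : Type u) (M : ι → C) [HasCoproduct M], (∀ i, P (M i)) → P (∐ M)

variable {P : ObjectProperty C} (hP : IsLocalizing P)

include hP

theorem IsLocalizing.zero {Z : C} (hZ : IsZero Z) : P Z := by
  have h0 : IsInitial Z := hZ.isInitial
  let c : Cofan (PEmpty.elim : PEmpty.{u+1} → C) := Cofan.mk Z (fun i => i.elim)
  have hc : IsColimit c := Cofan.IsColimit.mk _ (fun s => hZ.to_ _) (fun _ i => i.elim)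
    (fun s m _ => hZ.eq_of_src _ _)
  have : HasCoproduct (PEmpty.elim : PEmpty.{u+1} → C) := ⟨⟨⟨c, hc⟩⟩⟩
  have h1 := hP.sum PEmpty.{u+1} (PEmpty.elim : PEmpty.{u+1} → C) (fun i => i.elim)
  have h2 : IsZero (∐ (PEmpty.elim : PEmpty.{u+1} → C)) :=
    hZ.of_iso ((coproductIsCoproduct _).coconePointUniqueUpToIso hc)
  let S : ShortComplex C := ShortComplex.mk (0 : Z ⟶ ∐ (PEmpty.elim : PEmpty.{u+1} → C))
    (0 : _ ⟶ Z) (by simp)
  have hS : S.ShortExact :=
    { exact := ShortComplex.exact_of_isZero_X₂ _ h2
      mono_f := ⟨fun _ _ _ => hZ.eq_of_tgt _ _⟩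
      epi_g := ⟨fun _ _ _ => hZ.eq_of_src _ _⟩ }
  exact ((hP.serre S hS).1 h1).1

theorem IsLocalizing.ext {S : ShortComplex C} (hS : S.ShortExact) (h1 : P S.X₁) (h3 : P S.X₃) :
    P S.X₂ := (hP.serre S hS).2 ⟨h1, h3⟩

theorem IsLocalizing.sub {A B : C} (f : A ⟶ B) [Mono f] (hB : P B) : P A := by
  let S : ShortComplex C := ShortComplex.mk f (cokernel.π f) (cokernel.condition f)
  have hS : S.ShortExact :=
    { exact := ShortComplex.exact_cokernel f
      mono_f := inferInstance
      epi_g := inferInstance }
  exact ((hP.serre S hS).1 hB).1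

theorem IsLocalizing.quot {A B : C} (f : A ⟶ B) [Epi f] (hA : P A) : P B := by
  let S : ShortComplex C := ShortComplex.mk (kernel.ι f) f (kernel.condition f)
  have hS : S.ShortExact :=
    { exact := ShortComplex.exact_kernel f
      mono_f := inferInstance
      epi_g := inferInstance }
  exact ((hP.serre S hS).1 hA).2

theorem IsLocalizing.iso {A B : C} (e : A ≅ B) (hA : P A) : P B := hP.quot e.hom hA

/-- Extension with arbitrary kernel and image. -/
theorem IsLocalizing.of_kernel {A B : C} (f : A ⟶ B) (hk : P (kernel f)) (hB : P B) : P A := by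
  let S : ShortComplex C := ShortComplex.mk (kernel.ι f) (Abelian.factorThruImage f)
    (by rw [← cancel_mono (Abelian.image.ι f)]; simp)
  have hS : S.ShortExact :=
    { exact := by
        have h1 : (ShortComplex.mk (kernel.ι f) f (kernel.condition f)).Exact :=
          ShortComplex.exact_kernel f
        rw [ShortComplex.exact_iff_exact_up_to_refinements] at h1 ⊢
        intro A' x hx
        refine h1 x ?_
        change x ≫ f = 0
        have : x ≫ Abelian.factorThruImage f = 0 := hx
        rw [← Abelian.image.fac f, reassoc_of% this, zero_comp]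
      mono_f := inferInstanceAs (Mono (kernel.ι f))
      epi_g := inferInstanceAs (Epi (Abelian.factorThruImage f)) }
  exact hP.ext hS hk (hP.sub (Abelian.image.ι f) hB)

end Def

section Max

variable {C : Type v} [Category.{u} C] [Abelian C] [IsGrothendieckAbelian.{u} C]
variable {P : ObjectProperty C} (hP : IsLocalizing P)

include hP

/-- Every object has a largest subobject in a localizing class. -/
theorem IsLocalizing.exists_max (E : C) :
    ∃ (T : C) (i : T ⟶ E), Mono i ∧ P T ∧ ∀ (N : C) (f : N ⟶ cokernel i), P N → f = 0 := by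
  let I : Type _ := {S : Subobject E // P (S : C)}
  have : Small.{u} I := small_of_injective (β := Subobject E) Subtype.val_injective
  let fam : Shrink.{u} I → C := fun i => (((equivShrink I).symm i).1 : C)
  let d : ∐ fam ⟶ E := Sigma.desc fun i => (((equivShrink I).symm i).1).arrow
  have hsum : P (∐ fam) := hP.sum _ fam fun i => ((equivShrink I).symm i).2
  have hT : P (Abelian.image d) := hP.quot (Abelian.factorThruImage d) hsum
  refine ⟨Abelian.image d, Abelian.image.ι d, inferInstance, hT, fun N f hN => ?_⟩
  -- reduce to the image of `f`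
  let Q := cokernel (Abelian.image.ι d)
  let π : E ⟶ Q := cokernel.π (Abelian.image.ι d)
  have hI : P (Abelian.image f) := hP.quot (Abelian.factorThruImage f) hN
  let a : pullback π (Abelian.image.ι f) ⟶ E := pullback.fst _ _
  let b : pullback π (Abelian.image.ι f) ⟶ Abelian.image f := pullback.snd _ _
  have hmono : Mono a := inferInstance
  have hepi : Epi b := inferInstance
  have hk : P (kernel b) := by
    have hz : (kernel.ι b ≫ a) ≫ π = 0 := by
      rw [Category.assoc, show a ≫ π = b ≫ Abelian.image.ι f from pullback.condition,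
        ← Category.assoc, kernel.condition, zero_comp]
    let l : kernel b ⟶ Abelian.image d := (Abelian.monoLift (Abelian.image.ι d) (kernel.ι b ≫ a) hz)
    have hl : l ≫ Abelian.image.ι d = kernel.ι b ≫ a := Abelian.monoLift_comp _ _ _
    have : Mono (l ≫ Abelian.image.ι d) := by rw [hl]; infer_instance
    have : Mono l := mono_of_mono l (Abelian.image.ι d)
    exact hP.sub l hT
  have hE' : P (pullback π (Abelian.image.ι f)) := hP.of_kernel b hk hI
  let S : Subobject E := Subobject.mk a
  have hS : P (S : C) := hP.iso (Subobject.underlyingIso a).symm hE'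
  have hfac : ∃ g : pullback π (Abelian.image.ι f) ⟶ Abelian.image d, g ≫ Abelian.image.ι d = a := by
    let j : Shrink.{u} I := equivShrink I ⟨S, hS⟩
    have hj : (equivShrink I).symm j = ⟨S, hS⟩ := (equivShrink I).symm_apply_apply _
    have key : ∀ (s : I) (hs : (equivShrink I).symm j = s),
        ∃ g : (s.1 : C) ⟶ Abelian.image d, g ≫ Abelian.image.ι d = s.1.arrow := by
      rintro s rfl
      refine ⟨Sigma.ι fam j ≫ Abelian.factorThruImage d, ?_⟩
      rw [Category.assoc, Abelian.image.fac]
      exact Sigma.ι_desc _ _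
    obtain ⟨g, hg⟩ := key ⟨S, hS⟩ hj
    refine ⟨(Subobject.underlyingIso a).inv ≫ g, ?_⟩
    rw [Category.assoc, hg]
    exact Subobject.underlyingIso_arrow a
  obtain ⟨g, hg⟩ := hfac
  have h0 : b ≫ Abelian.image.ι f = 0 := by
    rw [← show a ≫ π = b ≫ Abelian.image.ι f from pullback.condition, ← hg, Category.assoc,
      cokernel.condition, comp_zero]
  have h1 : Abelian.image.ι f = 0 := by
    rw [← cancel_epi b, h0, comp_zero]
  rw [← Abelian.image.fac f, h1, comp_zero]

/-- If every nonzero quotient of `E` receives a nonzero map from an object of the class, then `E`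
is in the class. -/
theorem IsLocalizing.of_quot (E : C)
    (h : ∀ (Q : C) (p : E ⟶ Q), Epi p → ¬ IsZero Q → ∃ (N : C) (f : N ⟶ Q), P N ∧ f ≠ 0) : P E := by
  obtain ⟨T, i, hi, hT, hmax⟩ := hP.exists_max E
  by_cases hQ : IsZero (cokernel i)
  · have : Epi i := Preadditive.epi_of_isZero_cokernel _ hQ
    have : IsIso i := isIso_of_mono_of_epi i
    exact hP.iso (asIso i) hT
  · obtain ⟨N, f, hN, hf⟩ := h _ (cokernel.π i) inferInstance hQ
    exact absurd (hmax N f hN) hf

end Max

end K592.Localizing
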