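import Mathlib.RingTheory.PicardGroup
import Mathlib.Algebra.Category.ModuleCat.Abelian
import Mathlib.Algebra.Category.ModuleCat.Colimits
import Mathlib.CategoryTheory.Generator.Basic

/-!
# A generator with commutative endomorphism ring is invertible
-/

set_option autoImplicit false
universe u

open CategoryTheory CategoryTheory.Limits TensorProduct

namespace K592.Morita

section
variable {B K : Type u} [CommRing B] [AddCommGroup K] [Module B K]

/-- Rank one endomorphisms commute. -/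
theorem rel1 (hc : ∀ φ ψ : K →ₗ[B] K, φ ∘ₗ ψ = ψ ∘ₗ φ) (f g : Module.Dual B K) (m x k : K) :
    (f m * g x) • k = (g k * f x) • m := by
  have h := LinearMap.congr_fun (hc (f.smulRight k) (g.smulRight m)) x
  simp only [LinearMap.coe_comp, Function.comp_apply, LinearMap.smulRight_apply, map_smul,
    smul_smul] at h
  rw [mul_comm (f m), mul_comm (g k)]
  exact h

variable (S : Finset (Module.Dual B K × K))

/-- The trace map. -/
noncomputable def th (x : K) : K := ∑ i ∈ S, i.1 x • i.2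

theorem th1 (hc : ∀ φ ψ : K →ₗ[B] K, φ ∘ₗ ψ = ψ ∘ₗ φ) (hS : ∑ i ∈ S, i.1 i.2 = 1)
    (f : Module.Dual B K) (m x : K) : f m • th S x = f x • m := by
  unfold th
  rw [Finset.smul_sum]
  have h : ∀ i ∈ S, f m • i.1 x • i.2 = (i.1 i.2) • (f x • m) := by
    intro i _
    rw [smul_smul, smul_smul, rel1 hc]
  rw [Finset.sum_congr rfl h, ← Finset.sum_smul, hS, one_smul]

theorem span_top (hS : ∑ i ∈ S, i.1 i.2 = 1) :
    Ideal.span ((fun i : Module.Dual B K × K => i.1 i.2) '' (S : Set _)) = ⊤ := by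
  rw [Ideal.eq_top_iff_one, ← hS]
  exact Ideal.sum_mem _ fun i hi => Ideal.subset_span ⟨i, hi, rfl⟩

theorem th_eq (hc : ∀ φ ψ : K →ₗ[B] K, φ ∘ₗ ψ = ψ ∘ₗ φ) (hS : ∑ i ∈ S, i.1 i.2 = 1)
    (y : K) : th S y = y := by
  have h2 : ∀ (f : Module.Dual B K) (x : K), f x • (th S x - x) = 0 := by
    intro f x
    rw [smul_sub, th1 S hc hS, sub_self]
  have hadd : ∀ x y : K, th S (x + y) = th S x + th S y := by
    intro x y
    unfold th
    rw [← Finset.sum_add_distrib]
    exact Finset.sum_congr rfl fun i _ => by rw [map_add, add_smul]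
  have h3 : ∀ (f : Module.Dual B K) (x y : K),
      f x • (th S y - y) = - (f y • (th S x - x)) := by
    intro f x y
    have e1 := h2 f (x + y)
    rw [hadd, map_add, add_smul, show th S x + th S y - (x + y) = (th S x - x) + (th S y - y) by
      abel, smul_add, smul_add, h2 f x, h2 f y, zero_add, add_zero] at e1
    exact eq_neg_of_add_eq_zero_left e1
  have h4 : ∀ i : Module.Dual B K × K, (i.1 i.2) ^ 2 • (th S y - y) = 0 := by
    intro i
    rw [pow_two, mul_smul, h3 i.1 i.2 y, smul_neg, smul_comm, h2, smul_zero, neg_zero]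
  have h5 := Ideal.span_pow_eq_top _ (span_top S hS) 2
  have h6 : Ideal.span ((fun x : B => x ^ 2) ''
      ((fun i : Module.Dual B K × K => i.1 i.2) '' (S : Set _))) ≤
      LinearMap.ker (LinearMap.toSpanSingleton B K (th S y - y)) := by
    rw [Ideal.span_le]
    rintro _ ⟨_, ⟨i, _, rfl⟩, rfl⟩
    rw [SetLike.mem_coe, LinearMap.mem_ker, LinearMap.toSpanSingleton_apply]
    exact h4 i
  rw [h5, top_le_iff] at h6
  have h7 : (1 : B) ∈ LinearMap.ker (LinearMap.toSpanSingleton B K (th S y - y)) := by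
    rw [h6]; trivial
  rw [LinearMap.mem_ker, LinearMap.toSpanSingleton_apply, one_smul] at h7
  exact sub_eq_zero.1 h7

theorem rel2 (hc : ∀ φ ψ : K →ₗ[B] K, φ ∘ₗ ψ = ψ ∘ₗ φ) (hS : ∑ i ∈ S, i.1 i.2 = 1)
    (f : Module.Dual B K) (m x : K) : f m • x = f x • m := by
  rw [← th1 S hc hS f m x, th_eq S hc hS]

theorem tensor_eq (hc : ∀ φ ψ : K →ₗ[B] K, φ ∘ₗ ψ = ψ ∘ₗ φ) (hS : ∑ i ∈ S, i.1 i.2 = 1)
    (t : Module.Dual B K ⊗[B] K) :
    t = contractLeft B K t • ∑ i ∈ S, i.1 ⊗ₜ[B] i.2 := by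
  induction t using TensorProduct.induction_on with
  | zero => rw [map_zero, zero_smul]
  | add x y hx hy => rw [map_add, add_smul, ← hx, ← hy]
  | tmul f k =>
    rw [contractLeft_apply, Finset.smul_sum]
    have h : ∀ i ∈ S, f k • (i.1 ⊗ₜ[B] i.2) = i.1 i.2 • (f ⊗ₜ[B] k) := by
      intro i _
      have e1 : f i.2 • i.1 = i.1 i.2 • f := by
        ext x
        rw [LinearMap.smul_apply, LinearMap.smul_apply, smul_eq_mul, smul_eq_mul,
          ← smul_eq_mul, ← map_smul, rel2 S hc hS f i.2 x, map_smul, smul_eq_mul, mul_comm]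
      rw [← TensorProduct.tmul_smul, rel2 S hc hS f k i.2, TensorProduct.tmul_smul,
        TensorProduct.smul_tmul', TensorProduct.smul_tmul', e1]
    rw [Finset.sum_congr rfl h, ← Finset.sum_smul, hS, one_smul]

theorem invertible (hc : ∀ φ ψ : K →ₗ[B] K, φ ∘ₗ ψ = ψ ∘ₗ φ)
    (ht : Ideal.span {b : B | ∃ (f : Module.Dual B K) (k : K), f k = b} = ⊤) :
    Module.Invertible B K := by
  have h1 : (1 : B) ∈ LinearMap.range (contractLeft B K) := by
    have h2 : Ideal.span {b : B | ∃ (f : Module.Dual B K) (k : K), f k = b} ≤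
        LinearMap.range (contractLeft B K) := by
      rw [Ideal.span_le]
      rintro _ ⟨f, k, rfl⟩
      exact ⟨f ⊗ₜ k, contractLeft_apply f k⟩
    rw [ht] at h2
    exact h2 trivial
  obtain ⟨t, ht⟩ := h1
  obtain ⟨S, rfl⟩ := TensorProduct.exists_finset t
  have hS : ∑ i ∈ S, i.1 i.2 = 1 := by
    rw [← ht, map_sum]
    exact Finset.sum_congr rfl fun i _ => (contractLeft_apply i.1 i.2).symm
  refine ⟨fun x y hxy => ?_, fun b => ?_⟩
  · rw [tensor_eq S hc hS x, tensor_eq S hc hS y, hxy]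
  · refine ⟨b • ∑ i ∈ S, i.1 ⊗ₜ[B] i.2, ?_⟩
    rw [map_smul, ht, smul_eq_mul, mul_one]

end

/-- A separator of `ModuleCat B` with commutative endomorphisms is invertible. -/
theorem invertible_of_isSeparator {B : Type u} [CommRing B] (K : ModuleCat.{u} B)
    (hc : ∀ φ ψ : K ⟶ K, φ ≫ ψ = ψ ≫ φ) (hs : IsSeparator K) : Module.Invertible B K := by
  refine invertible (fun φ ψ => ?_) ?_
  · have h := hc (ModuleCat.ofHom ψ) (ModuleCat.ofHom φ)
    exact congrArg ModuleCat.Hom.hom h
  · set T := Ideal.span {b : B | ∃ (f : Module.Dual B K) (k : K), f k = b} with hT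
    have h := hs.def (ModuleCat.ofHom T.mkQ : ModuleCat.of B B ⟶ ModuleCat.of B (B ⧸ T)) 0 (by
      intro k
      apply ModuleCat.hom_ext
      ext x
      change T.mkQ (k.hom x) = 0
      rw [Submodule.mkQ_apply, Submodule.Quotient.mk_eq_zero]
      exact Ideal.subset_span ⟨k.hom, x, rfl⟩)
    rw [Ideal.eq_top_iff_one]
    have h2 : T.mkQ 1 = 0 := congr($(h).hom (1 : B))
    rwa [Submodule.mkQ_apply, Submodule.Quotient.mk_eq_zero] at h2

theorem isSeparator_self (A : Type u) [CommRing A] : IsSeparator (ModuleCat.of A A) := by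
  rw [isSeparator_def]
  intro X Y f g h
  apply ModuleCat.hom_ext
  ext x
  have h1 := h (ModuleCat.ofHom (LinearMap.toSpanSingleton A X x))
  have h2 : f.hom ((1 : A) • x) = g.hom ((1 : A) • x) := congr($(h1).hom (1 : A))
  rwa [one_smul] at h2

theorem comm_self (A : Type u) [CommRing A] (φ ψ : ModuleCat.of A A ⟶ ModuleCat.of A A) :
    φ ≫ ψ = ψ ≫ φ := by
  apply ModuleCat.hom_ext
  apply LinearMap.ext_ring
  change ψ.hom (φ.hom (1 : A)) = φ.hom (ψ.hom (1 : A))
  have h1 : ∀ (χ : ModuleCat.of A A ⟶ ModuleCat.of A A) (a : A), χ.hom a = a * χ.hom (1 : A) := by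
    intro χ a
    have h2 := χ.hom.map_smul a (1 : A)
    rw [smul_eq_mul, mul_one] at h2
    exact h2
  rw [h1 ψ, h1 φ (ψ.hom (1 : A)), mul_comm]

/-- An equivalence of module categories sends the ring to an invertible module. -/
theorem invertible_of_equiv {A B : Type u} [CommRing A] [CommRing B]
    (F : ModuleCat.{u} A ≌ ModuleCat.{u} B) :
    Module.Invertible B (F.functor.obj (ModuleCat.of A A)) := by
  refine invertible_of_isSeparator _ (fun φ ψ => ?_) ((isSeparator_self A).of_equivalence F)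
  obtain ⟨φ', rfl⟩ := F.functor.map_surjective φ
  obtain ⟨ψ', rfl⟩ := F.functor.map_surjective ψ
  rw [← Functor.map_comp, ← Functor.map_comp, comm_self]

end K592.Morita
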