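import Groth.Agent.S6710
import Groth.Agent.Fdesc.QCohStalk
import Groth.Agent.CohqB.FinHom
import Groth.Agent.Desc.FPSections
import Groth.Agent.QCohCat.K658.ZeroOn
import Groth.Agent.FormalB.TrKQuot
import Groth.Agent.Flat2C.Glob
import Groth.Agent.Ega1.SuppTensorMod
import Groth.Prelude.Def_CohB1

/-!
# Supports of quasi-coherent modules on affine opens; nonzero maps out of finitely presented modules
-/

set_option autoImplicit false
universe u

open CategoryTheory CategoryTheory.Limits AlgebraicGeometry TopologicalSpace Opposite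

namespace K592.SuppAff

variable {X : Scheme.{u}}

theorem mem_support_iff (M : X.Modules) (hM : Coh.IsQCoh M) {U : X.Opens} (hU : IsAffineOpen U)
    (x : X) (hx : x ∈ U) :
    x ∈ CohB1.support M ↔ hU.primeIdealOf ⟨x, hx⟩ ∈ Module.support Γ(X, U) Γ(M, U) := by
  let _ := Groth.Agent.Fdesc.QCohStalk.stalkModule M x hx
  have h := Groth.Agent.Fdesc.QCohStalk.isLocalizedModule_germ M hU hM x hx
  rw [Module.mem_support_iff]
  have e := (IsLocalizedModule.iso (hU.primeIdealOf ⟨x, hx⟩).asIdeal.primeCompl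
    (Groth.Agent.Fdesc.QCohStalk.germₗ M x hx)).toEquiv
  rw [e.nontrivial_congr]
  exact not_subsingleton_iff_nontrivial

theorem exists_mem_support (M : X.Modules) (U : X.Opens)
    (h : ¬ IsZero ((Scheme.Modules.restrictFunctor U.ι).obj M)) :
    ∃ x, x ∈ U ∧ x ∈ CohB1.support M := by
  by_contra hcon
  push Not at hcon
  apply h
  rw [K658.ZeroOn.isZero_restrict_iff]
  intro W hW
  have key (s : Γ(M, W)) : s = 0 := by
    refine Groth.Agent.Ega1.SubSheaf.section_ext M _ _ fun x hx ↦ ?_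
    have h1 : Subsingleton (M.presheaf.stalk x) := not_not.1 (hcon x (hW hx))
    have h2 : TopCat.Presheaf.germ M.presheaf W x hx s = TopCat.Presheaf.germ M.presheaf W x hx 0 :=
      Subsingleton.elim _ _
    obtain ⟨V, hxV, iU, iV, hV⟩ := TopCat.Presheaf.germ_eq M.presheaf x hx hx s 0 h2
    exact ⟨V, leOfHom iU, hxV, hV⟩
  exact ⟨fun a b ↦ by rw [key a, key b]⟩

/-- A nonzero map on an affine open. -/
theorem exists_hom_ne_zero (F Q : X.Modules) (hF : Coh.IsQCoh F) (hFP : CohB1.IsFP F)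
    (hQ : Coh.IsQCoh Q) {U : X.Opens} (hU : IsAffineOpen U)
    (hne : ¬ IsZero ((Scheme.Modules.restrictFunctor U.ι).obj Q))
    (hs : CohB1.support Q ⊆ CohB1.support F) :
    ∃ φ : (Scheme.Modules.restrictFunctor U.ι).obj F ⟶
      (Scheme.Modules.restrictFunctor U.ι).obj Q, φ ≠ 0 := by
  obtain ⟨x, hxU, hxQ⟩ := exists_mem_support Q U hne
  have h1 := (mem_support_iff Q hQ hU x hxU).1 hxQ
  have hnt : Nontrivial Γ(Q, U) := by
    by_contra hcon
    rw [not_nontrivial_iff_subsingleton] at hcon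
    rw [Module.support_eq_empty] at h1
    exact h1
  have hfp : Module.FinitePresentation Γ(X, U) Γ(F, U) :=
    Groth.Agent.Desc.FPSections.finitePresentation_sections hU hF hFP
  have hsub : Module.support Γ(X, U) Γ(Q, U) ⊆ Module.support Γ(X, U) Γ(F, U) := by
    intro p hp
    have hx : hU.fromSpec p ∈ U := by
      have := hU.range_fromSpec
      have h2 : hU.fromSpec p ∈ Set.range hU.fromSpec := ⟨p, rfl⟩
      rw [this] at h2
      exact h2
    have hpx : hU.primeIdealOf ⟨hU.fromSpec p, hx⟩ = p := by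
      apply hU.fromSpec.isOpenEmbedding.injective
      rw [hU.fromSpec_primeIdealOf]
    rw [← hpx, ← mem_support_iff Q hQ hU _ hx] at hp
    rw [← hpx, ← mem_support_iff F hF hU _ hx]
    exact hs hp
  have hnt2 : Nontrivial (Γ(F, U) →ₗ[Γ(X, U)] Γ(Q, U)) :=
    Groth.Agent.S6710.result Γ(X, U) Γ(F, U) Γ(Q, U) hsub
  obtain ⟨l, hl⟩ := exists_ne (0 : Γ(F, U) →ₗ[Γ(X, U)] Γ(Q, U))
  have : Coh.IsQCoh F := hF
  obtain ⟨φ, hφ⟩ := Groth.Agent.CohqB.FinHom.exists_hom_restrict F Q hU l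
  refine ⟨φ, ?_⟩
  rintro rfl
  apply hl
  ext m
  have h3 := hφ m
  have h4 : Q.presheaf.map (homOfLE (U.ι_image_le ⊤)).op (l m) = 0 := h3.symm.trans rfl
  have h5 : U ≤ U.ι ''ᵁ ⊤ := by
    rw [Scheme.Hom.image_top_eq_opensRange, Scheme.Opens.opensRange_ι]
  have h6 : Groth.Agent.Ega1.SubSheaf.res Q h5 (Groth.Agent.Ega1.SubSheaf.res Q
    (U.ι_image_le ⊤) (l m)) = l m := by
    rw [Groth.Agent.Ega1.SubSheaf.res_res, Groth.Agent.Ega1.SubSheaf.res_self]
  rw [← h6]
  have h7 : Groth.Agent.Ega1.SubSheaf.res Q (U.ι_image_le ⊤) (l m) = 0 := h4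
  rw [h7, map_zero]
  rfl

theorem mem_primeIdealOf_iff {U : X.Opens} (hU : IsAffineOpen U) (x : X) (hx : x ∈ U)
    (f : Γ(X, U)) : f ∈ (hU.primeIdealOf ⟨x, hx⟩).asIdeal ↔ x ∉ X.basicOpen f := by
  have h1 : x ∈ X.basicOpen f ↔ hU.primeIdealOf ⟨x, hx⟩ ∈ PrimeSpectrum.basicOpen f := by
    rw [← hU.fromSpec_preimage_basicOpen f]
    change _ ↔ hU.fromSpec (hU.primeIdealOf ⟨x, hx⟩) ∈ X.basicOpen f
    rw [hU.fromSpec_primeIdealOf]
  rw [h1]
  change _ ↔ ¬ (f ∉ (hU.primeIdealOf ⟨x, hx⟩).asIdeal)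
  rw [not_not]

open Groth.Agent.FormalB.TrKQuot in
/-- The quotient `F / 𝒥 F`. -/
theorem exists_quot (F : X.Modules) (hF : Coh.IsQCoh F) (hFP : CohB1.IsFP F) (J : X.IdealSheafData)
    (hJ : BlowUp.IsFiniteTypeIdeal J) :
    ∃ (G : X.Modules) (p : F ⟶ G), Coh.IsQCoh G ∧ CohB1.IsFP G ∧ Epi p ∧
      CohB1.support G = CohB1.support F ∩ (J.support : Set X) := by
  have hk := isKQuot_kπ J hF
  have hq := isQCoh_kq J hF
  have hfin : ∀ (U : X.affineOpens), Module.FinitePresentation Γ(X, U.1) Γ(kq J F, U.1) ∧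
      Nonempty ((Γ(F, U.1) ⧸ (J.ideal U • (⊤ : Submodule Γ(X, U.1) Γ(F, U.1)))) ≃ₗ[Γ(X, U.1)]
        Γ(kq J F, U.1)) := by
    intro U
    have : Module.FinitePresentation Γ(X, U.1) Γ(F, U.1) :=
      Groth.Agent.Desc.FPSections.finitePresentation_sections U.2 hF hFP
    let l : Γ(F, U.1) →ₗ[Γ(X, U.1)] Γ(kq J F, U.1) :=
      { toFun := (kπ J F).app U.1
        map_add' := map_add _
        map_smul' := fun r s => Scheme.Modules.Hom.app_smul _ _ _ }
    have hl : Function.Surjective l := IsKQuot.app_surjective hk hF U.2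
    have hker : LinearMap.ker l = J.ideal U • (⊤ : Submodule Γ(X, U.1) Γ(F, U.1)) := by
      ext s
      exact IsKQuot.app_eq_zero_iff hk hF U s
    refine ⟨Module.finitePresentation_of_surjective l hl ?_, ⟨?_⟩⟩
    · rw [hker]
      exact Submodule.FG.smul (show (J.ideal U).FG from hJ U) (Module.Finite.fg_top)
    · exact (Submodule.quotEquivOfEq _ _ hker.symm).trans (l.quotKerEquivOfSurjective hl)
  refine ⟨kq J F, kπ J F, hq, ?_, hk.epi, ?_⟩
  · rw [Groth.Agent.Desc.FPSections.isFP_iff_sections hq]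
    intro V hV
    exact (hfin ⟨V, hV⟩).1
  · ext x
    obtain ⟨U, hU, hxU, -⟩ := exists_isAffineOpen_mem_and_subset (x := x) (U := ⊤) trivial
    have hfp : Module.FinitePresentation Γ(X, U) Γ(F, U) :=
      Groth.Agent.Desc.FPSections.finitePresentation_sections hU hF hFP
    rw [Set.mem_inter_iff, mem_support_iff _ hq hU x hxU, mem_support_iff _ hF hU x hxU]
    obtain ⟨e⟩ := (hfin ⟨U, hU⟩).2
    rw [← e.support_eq, Module.support_quotient, Set.mem_inter_iff]
    refine and_congr Iff.rfl ?_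
    have h1 : x ∈ (J.support : Set X) ↔ x ∈ X.zeroLocus (U := U) (J.ideal ⟨U, hU⟩) :=
      J.mem_support_iff_of_mem (U := ⟨U, hU⟩) hxU
    rw [h1, PrimeSpectrum.mem_zeroLocus, Scheme.mem_zeroLocus_iff]
    constructor
    · intro h f hf
      exact (mem_primeIdealOf_iff hU x hxU f).1 (h hf)
    · intro h f hf
      exact (mem_primeIdealOf_iff hU x hxU f).2 (h f hf)

/-- On a qcqs scheme every closed subset with quasi-compact complement is the support of a finitely
presented quotient of the structure sheaf. -/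
theorem exists_fp_support [CompactSpace X] [QuasiSeparatedSpace X] (U : X.Opens)
    (hU : IsCompact (U : Set X)) :
    ∃ (G : X.Modules), Coh.IsQCoh G ∧ CohB1.IsFP G ∧ CohB1.support G = (U : Set X)ᶜ := by
  obtain ⟨J, hJ, hJU⟩ := Groth.Agent.Flat2C.Glob.exists_ft_support_eq_compl U hU
  have hO : Coh.IsQCoh (Coh.structureModule X) := Groth.Agent.PerfA.QCohSerre.isQCoh_unit X
  have hOf : CohB1.IsFP (Coh.structureModule X) := by
    rw [Groth.Agent.Desc.FPSections.isFP_iff_sections hO]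
    intro V hV
    change Module.FinitePresentation Γ(X, V) Γ(X, V)
    infer_instance
  obtain ⟨G, p, hG, hGf, hp, hs⟩ := exists_quot (Coh.structureModule X) hO hOf J hJ
  refine ⟨G, hG, hGf, ?_⟩
  rw [hs, hJU]
  rw [Set.inter_eq_right]
  intro x hx
  obtain ⟨W, hW, hxW, -⟩ := exists_isAffineOpen_mem_and_subset (x := x) (U := ⊤) trivial
  rw [mem_support_iff _ hO hW x hxW]
  change _ ∈ Module.support Γ(X, W) Γ(X, W)
  rw [Module.mem_support_iff]
  infer_instance

end K592.SuppAff
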