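import Groth.Agent.FunMor.K592.Localizing
import Groth.Agent.FunMor.K592.SuppAff
import Groth.Agent.QCohCat.K658.LocOpen
import Groth.Agent.QCohCat.K658.Abel

/-!
# Restriction of quasi-coherent modules to quasi-compact opens and localizing classes
-/

set_option autoImplicit false
universe u

open CategoryTheory CategoryTheory.Limits AlgebraicGeometry TopologicalSpace Opposite

namespace K592.OpenQ

open K658.LocOpen K658.PushPull K658.ZeroOn K658.Abel K592.Localizing QCohCat

variable {X : Scheme.{u}}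

instance preservesFiniteLimits_restrictQ (U : X.Opens) : PreservesFiniteLimits (restrictQ U) := by
  have h1 : PreservesFiniteLimits (restrictQ U ⋙ (isQCoh (↑U : Scheme.{u})).ι) :=
    inferInstanceAs (PreservesFiniteLimits ((isQCoh X).ι ⋙ Scheme.Modules.restrictFunctor U.ι))
  exact preservesFiniteLimits_of_reflects_of_preserves (restrictQ U) (isQCoh (↑U : Scheme.{u})).ι

instance preservesColimits_restrictQ (U : X.Opens) :
    PreservesColimitsOfSize.{u, u} (restrictQ U) := by
  have h1 : PreservesColimitsOfSize.{u, u} (restrictQ U ⋙ (isQCoh (↑U : Scheme.{u})).ι) :=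
    inferInstanceAs (PreservesColimitsOfSize.{u, u}
      ((isQCoh X).ι ⋙ Scheme.Modules.restrictFunctor U.ι))
  exact preservesColimits_of_reflects_of_preserves (restrictQ U) (isQCoh (↑U : Scheme.{u})).ι

instance preservesFiniteColimits_restrictQ (U : X.Opens) :
    PreservesFiniteColimits (restrictQ U) := PreservesColimitsOfSize.preservesFiniteColimits _

instance additive_restrictQ (U : X.Opens) : (restrictQ U).Additive :=
  Functor.additive_of_preserves_binary_products _

/-- The objects killed by a functor. -/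
def killedBy {C D : Type*} [Category C] [Category D] (G : C ⥤ D) : ObjectProperty C :=
  fun M => IsZero (G.obj M)

theorem isLocalizing_killedBy {C D : Type (u + 1)} [Category.{u} C] [Category.{u} D] [Abelian C]
    [Abelian D] (G : C ⥤ D) [PreservesFiniteLimits G] [PreservesFiniteColimits G]
    [PreservesColimitsOfSize.{u, u} G] : IsLocalizing (killedBy G) := by
  have : G.Additive := Functor.additive_of_preserves_binary_products _
  constructor
  · intro S hS
    have h := hS.map_of_exact G
    constructor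
    · intro h2
      have hm : Mono (S.map G).f := h.mono_f
      have he : Epi (S.map G).g := h.epi_g
      have h2' : IsZero (S.map G).X₂ := h2
      have a1 : IsZero (S.map G).X₁ := IsZero.of_mono (S.map G).f h2'
      have a3 : IsZero (S.map G).X₃ := IsZero.of_epi (S.map G).g h2'
      exact ⟨a1, a3⟩
    · rintro ⟨h1, h3⟩
      exact ShortComplex.Exact.isZero_of_both_zeros h.exact (h1.eq_of_src _ _) (h3.eq_of_tgt _ _)
  · intro ι M _ hM
    have hc := isColimitOfPreserves G (coproductIsCoproduct M)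
    refine IsZero.iff_id_eq_zero _ |>.2 ?_
    refine hc.hom_ext fun j => ?_
    exact (hM j.as).eq_of_src _ _

/-- The class of quasi-coherent modules vanishing on `U`. -/
def SQ (U : X.Opens) : ObjectProperty (QCoh X) := killedBy (restrictQ U)

theorem SQ_iff (U : X.Opens) (M : QCoh X) :
    SQ U M ↔ IsZero ((Scheme.Modules.restrictFunctor U.ι).obj M.obj) := by
  constructor
  · intro h
    exact (isQCoh (↑U : Scheme.{u})).ι.map_isZero h
  · intro h
    rw [SQ, killedBy, IsZero.iff_id_eq_zero]
    apply ObjectProperty.hom_ext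
    exact h.eq_of_src _ _

theorem SQ_iff_sections (U : X.Opens) (M : QCoh X) :
    SQ U M ↔ ∀ W : X.Opens, W ≤ U → Subsingleton Γ(M.obj, W) := by
  rw [SQ_iff, isZero_restrict_iff]

theorem SQ_iff_support (U : X.Opens) (M : QCoh X) :
    SQ U M ↔ CohB1.support M.obj ⊆ (↑U : Set X)ᶜ := by
  rw [SQ_iff, support_subset_compl_iff]

theorem isLocalizing_SQ (U : X.Opens) : IsLocalizing (SQ U) := isLocalizing_killedBy _

theorem isZero_iff_sections (M : QCoh X) : IsZero M ↔ ∀ W : X.Opens, Subsingleton Γ(M.obj, W) := by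
  constructor
  · intro h W
    exact subsingleton_of_isZero ((isQCoh X).ι.map_isZero h) W
  · intro h
    rw [IsZero.iff_id_eq_zero]
    apply ObjectProperty.hom_ext
    exact (isZero_of_sections h).eq_of_src _ _

theorem isZero_of_cover {M : QCoh X} {U V : X.Opens} (hUV : U ⊔ V = ⊤) (hU : SQ U M)
    (hV : SQ V M) : IsZero M := by
  rw [isZero_iff_sections]
  rw [SQ_iff_sections] at hU hV
  intro W
  have key (s : Γ(M.obj, W)) : s = 0 := by
    refine Groth.Agent.Ega1.SubSheaf.section_ext M.obj _ _ fun x hx ↦ ?_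
    have hx' : x ∈ U ⊔ V := by rw [hUV]; trivial
    rcases hx' with h | h
    · have := hU (W ⊓ U) inf_le_right
      exact ⟨W ⊓ U, inf_le_left, ⟨hx, h⟩, Subsingleton.elim _ _⟩
    · have := hV (W ⊓ V) inf_le_right
      exact ⟨W ⊓ V, inf_le_left, ⟨hx, h⟩, Subsingleton.elim _ _⟩
  exact ⟨fun a b ↦ by rw [key a, key b]⟩

section Push

variable (V : X.Opens) [QuasiCompact V.ι]

instance full_pushQ : (pushQ V.ι).Full := by
  have h1 : (pushQ V.ι ⋙ (QCohCat.isQCoh X).ι).Full :=
    inferInstanceAs ((QCohCat.isQCoh (↑V : Scheme.{u})).ι ⋙ Scheme.Modules.pushforward V.ι).Full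
  exact Functor.Full.of_comp_faithful _ (QCohCat.isQCoh X).ι

instance faithful_pushQ : (pushQ V.ι).Faithful := by
  have h2 : (pushQ V.ι ⋙ (QCohCat.isQCoh X).ι).Faithful :=
    inferInstanceAs ((QCohCat.isQCoh (↑V : Scheme.{u})).ι ⋙ Scheme.Modules.pushforward V.ι).Faithful
  exact Functor.Faithful.of_comp _ (QCohCat.isQCoh X).ι

instance preservesLimits_pushQ : PreservesLimitsOfSize.{u, u} (pushQ V.ι) :=
  (K658.LocOpen.adjQ V).rightAdjoint_preservesLimits

instance preservesFiniteLimits_pushQ : PreservesFiniteLimits (pushQ V.ι) :=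
  PreservesLimitsOfSize.preservesFiniteLimits _

instance additive_pushQ : (pushQ V.ι).Additive :=
  Functor.additive_of_preserves_binary_products _

theorem SQ_push_iff (U : X.Opens) (N : QCoh (↑V : Scheme.{u})) :
    SQ U ((pushQ V.ι).obj N) ↔ SQ (V.ι ⁻¹ᵁ U) N := by
  rw [SQ_iff_sections, SQ_iff_sections]
  constructor
  · intro h W hW
    have h1 := h (V.ι ''ᵁ W) (by
      refine (Scheme.Hom.image_mono V.ι hW).trans ?_
      rw [Scheme.Hom.image_preimage_eq_opensRange_inf]
      exact inf_le_right)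
    have h2 : Subsingleton Γ(N.obj, V.ι ⁻¹ᵁ (V.ι ''ᵁ W)) := h1
    rwa [Scheme.Hom.preimage_image_eq] at h2
  · intro h W hW
    exact h (V.ι ⁻¹ᵁ W) (V.ι.preimage_mono hW)

omit [QuasiCompact V.ι] in
theorem SQ_restrict_iff (U : X.Opens) (M : QCoh X) :
    SQ (V.ι ⁻¹ᵁ U) ((restrictQ V).obj M) ↔ SQ (U ⊓ V) M := by
  rw [SQ_iff_sections, SQ_iff_sections]
  constructor
  · intro h W hW
    have h1 := h (V.ι ⁻¹ᵁ W) (V.ι.preimage_mono (hW.trans inf_le_left))
    have h2 : Subsingleton Γ(M.obj, V.ι ''ᵁ (V.ι ⁻¹ᵁ W)) := h1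
    rwa [Scheme.Hom.image_preimage_eq_opensRange_inf, Scheme.Opens.opensRange_ι,
      inf_eq_right.2 (hW.trans inf_le_right)] at h2
  · intro h W hW
    exact h (V.ι ''ᵁ W) (le_inf ((Scheme.Hom.image_mono V.ι hW).trans (by
      rw [Scheme.Hom.image_preimage_eq_opensRange_inf]
      exact inf_le_right)) (V.ι_image_le W))

omit [QuasiCompact V.ι] in
theorem SQ_mono {U U' : X.Opens} (h : U ≤ U') {M : QCoh X} (hM : SQ U' M) : SQ U M := by
  rw [SQ_iff_sections] at hM ⊢
  exact fun W hW => hM W (hW.trans h)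

/-- The push forward of an epimorphism with target vanishing on `U`, where `U ∪ V = X`. -/
theorem epi_push {U : X.Opens} (hUV : U ⊔ V = ⊤) {A B : QCoh (↑V : Scheme.{u})} (g : A ⟶ B)
    [Epi g] (hB : SQ U ((pushQ V.ι).obj B)) : Epi ((pushQ V.ι).map g) := by
  apply Preadditive.epi_of_isZero_cokernel
  refine isZero_of_cover hUV ((isLocalizing_SQ U).quot (cokernel.π _) hB) ?_
  have e := PreservesCokernel.iso (restrictQ V) ((pushQ V.ι).map g)
  have h1 : Epi ((restrictQ V).map ((pushQ V.ι).map g)) := by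
    have hn := (K658.LocOpen.adjQ V).counit.naturality g
    have h2 : (restrictQ V).map ((pushQ V.ι).map g) =
        (K658.LocOpen.adjQ V).counit.app A ≫ g ≫ inv ((K658.LocOpen.adjQ V).counit.app B) := by
      rw [← Category.assoc, IsIso.eq_comp_inv]
      exact hn
    rw [h2]
    infer_instance
  exact (isZero_cokernel_of_epi _).of_iso e

/-- `F ⟶ j_* j^* F` is an isomorphism for `F` vanishing on `U`, where `U ∪ V = X`. -/
theorem isIso_unit {U : X.Opens} (hUV : U ⊔ V = ⊤) (M : QCoh X) (hM : SQ U M) :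
    IsIso ((K658.LocOpen.adjQ V).unit.app M) := by
  have h1 : IsIso ((restrictQ V).map ((K658.LocOpen.adjQ V).unit.app M)) := by
    have h2 := (K658.LocOpen.adjQ V).left_triangle_components M
    have h3 : (restrictQ V).map ((K658.LocOpen.adjQ V).unit.app M) =
        inv ((K658.LocOpen.adjQ V).counit.app ((restrictQ V).obj M)) := by
      rw [← cancel_mono ((K658.LocOpen.adjQ V).counit.app ((restrictQ V).obj M)), h2]
      simp
    rw [h3]
    infer_instance
  have hJ : SQ U ((pushQ V.ι).obj ((restrictQ V).obj M)) := by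
    rw [SQ_push_iff, SQ_restrict_iff]
    exact SQ_mono inf_le_left hM
  have hm : Mono ((K658.LocOpen.adjQ V).unit.app M) := by
    apply Preadditive.mono_of_isZero_kernel
    refine isZero_of_cover hUV ((isLocalizing_SQ U).sub (kernel.ι _) hM) ?_
    have e := PreservesKernel.iso (restrictQ V) ((K658.LocOpen.adjQ V).unit.app M)
    exact (isZero_kernel_of_mono _).of_iso e
  have he : Epi ((K658.LocOpen.adjQ V).unit.app M) := by
    apply Preadditive.epi_of_isZero_cokernel
    refine isZero_of_cover hUV ((isLocalizing_SQ U).quot (cokernel.π _) hJ) ?_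
    have e := PreservesCokernel.iso (restrictQ V) ((K658.LocOpen.adjQ V).unit.app M)
    exact (isZero_cokernel_of_epi _).of_iso e
  exact isIso_of_mono_of_epi _

/-- The class on `V` of modules vanishing on `U ∩ V` whose direct image lies in `P`. -/
def pushClass (U : X.Opens) (P : ObjectProperty (QCoh X)) :
    ObjectProperty (QCoh (↑V : Scheme.{u})) :=
  fun N => SQ (V.ι ⁻¹ᵁ U) N ∧ P ((pushQ V.ι).obj N)

theorem shortExact_push {U : X.Opens} (hUV : U ⊔ V = ⊤) {S : ShortComplex (QCoh (↑V : Scheme.{u}))}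
    (hS : S.ShortExact) (h3 : SQ (V.ι ⁻¹ᵁ U) S.X₃) : (S.map (pushQ V.ι)).ShortExact := by
  have := hS.mono_f
  have := hS.epi_g
  have he : Epi ((pushQ V.ι).map S.g) := epi_push V hUV S.g ((SQ_push_iff V U _).2 h3)
  have hm : Mono ((pushQ V.ι).map S.f) := inferInstance
  exact
    { exact := hS.exact.map_of_mono_of_preservesKernel (pushQ V.ι) inferInstance inferInstance
      mono_f := hm
      epi_g := he }

theorem isLocalizing_pushClass {U : X.Opens} (hUV : U ⊔ V = ⊤) {P : ObjectProperty (QCoh X)}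
    (hP : IsLocalizing P) : IsLocalizing (pushClass V U P) := by
  have hT := isLocalizing_SQ (V.ι ⁻¹ᵁ U)
  constructor
  · intro S hS
    constructor
    · rintro ⟨h2, h2'⟩
      obtain ⟨h1, h3⟩ := (hT.serre S hS).1 h2
      obtain ⟨h4, h5⟩ := (hP.serre _ (shortExact_push V hUV hS h3)).1 h2'
      exact ⟨⟨h1, h4⟩, ⟨h3, h5⟩⟩
    · rintro ⟨⟨h1, h4⟩, ⟨h3, h5⟩⟩
      exact ⟨(hT.serre S hS).2 ⟨h1, h3⟩, (hP.serre _ (shortExact_push V hUV hS h3)).2 ⟨h4, h5⟩⟩
  · intro ι M _ hM
    have h1 : SQ (V.ι ⁻¹ᵁ U) (∐ M) := hT.sum ι M fun i => (hM i).1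
    refine ⟨h1, ?_⟩
    have h2 : P (∐ fun i => (pushQ V.ι).obj (M i)) := hP.sum ι _ fun i => (hM i).2
    let c : (∐ fun i => (pushQ V.ι).obj (M i)) ⟶ (pushQ V.ι).obj (∐ M) :=
      Sigma.desc fun i => (pushQ V.ι).map (Sigma.ι M i)
    have hc : Epi c := by
      apply Preadditive.epi_of_isZero_cokernel
      refine isZero_of_cover hUV ((isLocalizing_SQ U).quot (cokernel.π _)
        ((SQ_push_iff V U _).2 h1)) ?_
      have e := PreservesCokernel.iso (restrictQ V) c
      have h3 : Epi ((restrictQ V).map c) := by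
        constructor
        intro Z u v huv
        have key : ∀ w : (restrictQ V).obj ((pushQ V.ι).obj (∐ M)) ⟶ Z, ∀ i,
            Sigma.ι M i ≫ inv ((K658.LocOpen.adjQ V).counit.app (∐ M)) ≫ w =
              inv ((K658.LocOpen.adjQ V).counit.app (M i)) ≫
                (restrictQ V).map (Sigma.ι (fun i => (pushQ V.ι).obj (M i)) i) ≫ (restrictQ V).map c ≫ w := by
          intro w i
          have hn := (K658.LocOpen.adjQ V).counit.naturality (Sigma.ι M i)
          have hn' : (restrictQ V).map ((pushQ V.ι).map (Sigma.ι M i)) ≫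
            (K658.LocOpen.adjQ V).counit.app (∐ M) =
              (K658.LocOpen.adjQ V).counit.app (M i) ≫ Sigma.ι M i := hn
          have h4 : Sigma.ι M i ≫ inv ((K658.LocOpen.adjQ V).counit.app (∐ M)) =
              inv ((K658.LocOpen.adjQ V).counit.app (M i)) ≫
                (restrictQ V).map ((pushQ V.ι).map (Sigma.ι M i)) := by
            rw [IsIso.comp_inv_eq, Category.assoc, hn', IsIso.inv_hom_id_assoc]
          rw [reassoc_of% h4]
          have h5 : Sigma.ι (fun i => (pushQ V.ι).obj (M i)) i ≫ c =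
              (pushQ V.ι).map (Sigma.ι M i) := Sigma.ι_desc _ _
          rw [← h5, Functor.map_comp, Category.assoc]
        rw [← cancel_epi (inv ((K658.LocOpen.adjQ V).counit.app (∐ M)))]
        apply Sigma.hom_ext
        intro i
        rw [key u i, key v i, huv]
      exact (isZero_cokernel_of_epi _).of_iso e
    exact hP.quot c h2

end Push

end K592.OpenQ
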