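import Groth.Agent.FunMor.K592.Corr
import Groth.Agent.FunMor.K592.AppR
import Mathlib.CategoryTheory.Localization.HomEquiv
import Mathlib.CategoryTheory.Localization.Equivalence

/-!
# Morphisms over corresponding opens
-/

set_option autoImplicit false
universe u

open CategoryTheory CategoryTheory.Limits AlgebraicGeometry TopologicalSpace Opposite

namespace K592.Psi

open K658.LocOpen K658.PushPull K658.ZeroOn K658.Abel K592.Localizing K592.OpenQ K592.SuppGen
  K592.Corr QCohCat

variable {X Y : Scheme.{u}}

/-- The morphisms which become isomorphisms on `U`. -/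
def WQ (U : X.Opens) : MorphismProperty (QCoh X) :=
  (MorphismProperty.isomorphisms _).inverseImage (restrictQ U)

theorem WQ_iff (U : X.Opens) {A B : QCoh X} (f : A ⟶ B) :
    WQ U f ↔ SQ U (kernel f) ∧ SQ U (cokernel f) := by
  change IsIso ((restrictQ U).map f) ↔ IsZero ((restrictQ U).obj (kernel f)) ∧
    IsZero ((restrictQ U).obj (cokernel f))
  have e1 := PreservesKernel.iso (restrictQ U) f
  have e2 := PreservesCokernel.iso (restrictQ U) f
  constructor
  · intro h
    exact ⟨(isZero_kernel_of_mono _).of_iso e1, (isZero_cokernel_of_epi _).of_iso e2⟩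
  · rintro ⟨h1, h2⟩
    have := Preadditive.mono_of_isZero_kernel _ (h1.of_iso e1.symm)
    have := Preadditive.epi_of_isZero_cokernel _ (h2.of_iso e2.symm)
    exact isIso_of_mono_of_epi _

theorem WQ_mono {U U' : X.Opens} (h : U' ≤ U) {A B : QCoh X} (f : A ⟶ B) (hf : WQ U f) :
    WQ U' f := by
  rw [WQ_iff] at hf ⊢
  exact ⟨SQ_mono h hf.1, SQ_mono h hf.2⟩

instance isLocalization_restrictQ (U : X.Opens) [QuasiCompact U.ι] :
    (restrictQ U).IsLocalization (WQ U) := (K658.LocOpen.adjQ U).isLocalization_leftAdjoint'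

variable {Φ : QCoh X ≌ QCoh Y} {U : X.Opens} {V : Y.Opens}

theorem WQ_map_iff (h : Match Φ U V) {A B : QCoh X} (f : A ⟶ B) :
    WQ U f ↔ WQ V (Φ.functor.map f) := by
  have : Φ.functor.Additive := Functor.additive_of_preserves_binary_products _
  rw [WQ_iff, WQ_iff, h, h]
  have e1 := PreservesKernel.iso Φ.functor f
  have e2 := PreservesCokernel.iso Φ.functor f
  exact and_congr ⟨fun h => (isLocalizing_SQ V).iso e1 h, fun h => (isLocalizing_SQ V).iso e1.symm h⟩
    ⟨fun h => (isLocalizing_SQ V).iso e2 h, fun h => (isLocalizing_SQ V).iso e2.symm h⟩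

theorem isLocalization_comp (h : Match Φ U V) [QuasiCompact V.ι] :
    (Φ.functor ⋙ restrictQ V).IsLocalization (WQ U) := by
  refine Functor.IsLocalization.of_equivalence_source (restrictQ V) (WQ V) _ (WQ U) Φ.symm ?_ ?_
    (((Functor.associator _ _ _).symm ≪≫ Functor.isoWhiskerRight Φ.counitIso (restrictQ V) ≪≫
      Functor.leftUnitor _))
  · intro A B f hf
    have h1 : WQ U (Φ.inverse.map f) := (WQ_map_iff h.symm f).1 hf
    exact (WQ U).le_isoClosure _ h1
  · intro A B f hf
    exact (WQ_map_iff h f).1 hf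

variable (h : Match Φ U V) [QuasiCompact U.ι] [QuasiCompact V.ι]

/-- The bijection on morphisms. -/
noncomputable def psi {A B : QCoh X} : ((restrictQ U).obj A ⟶ (restrictQ U).obj B) ≃
    ((restrictQ V).obj (Φ.functor.obj A) ⟶ (restrictQ V).obj (Φ.functor.obj B)) :=
  have := isLocalization_comp h
  Localization.homEquiv (WQ U) (restrictQ U) (Φ.functor ⋙ restrictQ V)

theorem psi_comp {A B C : QCoh X} (f : (restrictQ U).obj A ⟶ (restrictQ U).obj B)
    (g : (restrictQ U).obj B ⟶ (restrictQ U).obj C) : psi h (f ≫ g) = psi h f ≫ psi h g := by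
  have := isLocalization_comp h
  exact Localization.homEquiv_comp (WQ U) (restrictQ U) (Φ.functor ⋙ restrictQ V) f g

theorem psi_map {A B : QCoh X} (f : A ⟶ B) :
    psi h ((restrictQ U).map f) = (restrictQ V).map (Φ.functor.map f) := by
  have := isLocalization_comp h
  exact Localization.homEquiv_map (WQ U) (restrictQ U) (Φ.functor ⋙ restrictQ V) f

/-- The fraction presenting a morphism. -/
theorem frac {A B : QCoh X} (g : (restrictQ U).obj A ⟶ (restrictQ U).obj B) :
    g ≫ (restrictQ U).map ((K658.LocOpen.adjQ U).unit.app B) =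
      (restrictQ U).map ((K658.LocOpen.adjQ U).homEquiv _ _ g) := by
  rw [← cancel_mono ((K658.LocOpen.adjQ U).counit.app ((restrictQ U).obj B)), Category.assoc,
    (K658.LocOpen.adjQ U).left_triangle_components B, Adjunction.homEquiv_unit,
    Functor.map_comp, Category.assoc]
  have h1 := (K658.LocOpen.adjQ U).counit.naturality g
  have h2 : (restrictQ U).map ((pushQ U.ι).map g) ≫
      (K658.LocOpen.adjQ U).counit.app ((restrictQ U).obj B) =
      (K658.LocOpen.adjQ U).counit.app ((restrictQ U).obj A) ≫ g := h1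
  rw [h2, reassoc_of% ((K658.LocOpen.adjQ U).left_triangle_components A)]
  exact Category.comp_id g

theorem WQ_unit (B : QCoh X) : WQ U ((K658.LocOpen.adjQ U).unit.app B) := by
  have h1 : IsIso ((restrictQ U).map ((K658.LocOpen.adjQ U).unit.app B)) := by
    have h2 := (K658.LocOpen.adjQ U).left_triangle_components B
    have h3 : (restrictQ U).map ((K658.LocOpen.adjQ U).unit.app B) =
        inv ((K658.LocOpen.adjQ U).counit.app ((restrictQ U).obj B)) := by
      rw [← cancel_mono ((K658.LocOpen.adjQ U).counit.app ((restrictQ U).obj B)), h2]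
      simp
    rw [h3]
    infer_instance
  exact h1

theorem psi_frac {A B : QCoh X} (g : (restrictQ U).obj A ⟶ (restrictQ U).obj B) :
    psi h g ≫ (restrictQ V).map (Φ.functor.map ((K658.LocOpen.adjQ U).unit.app B)) =
      (restrictQ V).map (Φ.functor.map ((K658.LocOpen.adjQ U).homEquiv _ _ g)) := by
  rw [← psi_map h, ← psi_map h, ← psi_comp h, frac]

theorem psi_add {A B : QCoh X} (g g' : (restrictQ U).obj A ⟶ (restrictQ U).obj B) :
    psi h (g + g') = psi h g + psi h g' := by
  have : Φ.functor.Additive := Functor.additive_of_preserves_binary_products _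
  have h1 : IsIso ((restrictQ V).map (Φ.functor.map ((K658.LocOpen.adjQ U).unit.app B))) :=
    (WQ_map_iff h _).1 (WQ_unit B)
  rw [← cancel_mono ((restrictQ V).map (Φ.functor.map ((K658.LocOpen.adjQ U).unit.app B))),
    Preadditive.add_comp, psi_frac, psi_frac, psi_frac, ← Functor.map_add, ← Functor.map_add]
  congr 2

end K592.Psi
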