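import Groth.Agent.FunMor.K592.OpenQ
import Groth.Agent.PerfC.FPSections
import Groth.Agent.PerfC.Supp
import Groth.Agent.Ega3B.Devissage

/-!
# A finitely presented module generates the quasi-coherent modules supported in its support
-/

set_option autoImplicit false
universe u

open CategoryTheory CategoryTheory.Limits AlgebraicGeometry TopologicalSpace Opposite

namespace K592.SuppGen

open K658.LocOpen K658.PushPull K658.ZeroOn K658.Abel K592.Localizing K592.OpenQ QCohCat

/-- The statement to be proved, for a fixed scheme. -/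
def Gen (X : Scheme.{u}) : Prop :=
  ∀ (F : QCoh X), CohB1.IsFP F.obj → ∀ P : ObjectProperty (QCoh X), IsLocalizing P → P F →
    ∀ E : QCoh X, CohB1.support E.obj ⊆ CohB1.support F.obj → P E

variable {X : Scheme.{u}}

theorem support_subset_of_epi {A B : QCoh X} (f : A ⟶ B) [Epi f] :
    CohB1.support B.obj ⊆ CohB1.support A.obj := by
  have : Epi f.hom := inferInstanceAs (Epi ((isQCoh X).ι.map f))
  exact Groth.Agent.Ega3B.Devissage.support_subset_of_epi f.hom

theorem support_subset_of_mono {A B : QCoh X} (f : A ⟶ B) [Mono f] :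
    CohB1.support A.obj ⊆ CohB1.support B.obj := by
  have : Mono f.hom := inferInstanceAs (Mono ((isQCoh X).ι.map f))
  exact Groth.Agent.Ega3B.Devissage.support_subset_of_mono f.hom

/-- Modules vanishing on `U` are handled by the other open. -/
theorem stepA [CompactSpace X] [QuasiSeparatedSpace X] {U V : X.Opens} (hUV : U ⊔ V = ⊤)
    (hU : IsCompact (U : Set X)) [QuasiCompact V.ι] (IH : Gen (↑V : Scheme.{u}))
    (F : QCoh X) (hF : CohB1.IsFP F.obj) (P : ObjectProperty (QCoh X)) (hP : IsLocalizing P)
    (hPF : P F) (E : QCoh X) (hE : CohB1.support E.obj ⊆ CohB1.support F.obj) (hEU : SQ U E) :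
    P E := by
  obtain ⟨J, hJ, hJU⟩ := Groth.Agent.Flat2C.Glob.exists_ft_support_eq_compl U hU
  obtain ⟨G, p, hG, hGf, hp, hs⟩ := SuppAff.exists_quot F.obj F.property hF J hJ
  let F' : QCoh X := ⟨G, hG⟩
  let q : F ⟶ F' := ObjectProperty.homMk p
  have hq : Epi q := by
    have : Epi ((isQCoh X).ι.map q) := hp
    exact (isQCoh X).ι.epi_of_epi_map this
  have hPF' : P F' := hP.quot q hPF
  have hF'U : SQ U F' := by
    rw [SQ_iff_support]
    change CohB1.support G ⊆ _
    rw [hs, hJU]
    exact Set.inter_subset_right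
  have hc : pushClass V U P ((restrictQ V).obj F') := by
    refine ⟨?_, ?_⟩
    · rw [SQ_restrict_iff]
      exact SQ_mono inf_le_left hF'U
    · have := isIso_unit V hUV F' hF'U
      exact hP.iso (asIso ((K658.LocOpen.adjQ V).unit.app F')) hPF'
  have hfp : CohB1.IsFP ((restrictQ V).obj F').obj :=
    Groth.Agent.PerfC.FPSections.isFP_restrict V.ι hGf
  have hs' : CohB1.support ((restrictQ V).obj E).obj ⊆ CohB1.support ((restrictQ V).obj F').obj := by
    have e1 : CohB1.support ((restrictQ V).obj E).obj = V.ι ⁻¹' CohB1.support E.obj :=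
      Groth.Agent.PerfC.Supp.support_restrict V.ι E.obj
    have e2 : CohB1.support ((restrictQ V).obj F').obj = V.ι ⁻¹' CohB1.support G :=
      Groth.Agent.PerfC.Supp.support_restrict V.ι G
    rw [e1, e2, hs, hJU]
    refine Set.preimage_mono (Set.subset_inter hE ?_)
    exact (SQ_iff_support U E).1 hEU
  have h1 := IH _ hfp _ (isLocalizing_pushClass V hUV hP) hc _ hs'
  have := isIso_unit V hUV E hEU
  exact hP.iso (asIso ((K658.LocOpen.adjQ V).unit.app E)).symm h1.2

theorem stepB {U : X.Opens} (hU : IsAffineOpen U) [QuasiCompact U.ι] (F : QCoh X)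
    (hF : CohB1.IsFP F.obj) (P : ObjectProperty (QCoh X)) (hP : IsLocalizing P) (hPF : P F)
    (hA : ∀ E : QCoh X, CohB1.support E.obj ⊆ CohB1.support F.obj → SQ U E → P E)
    (E : QCoh X) (hE : CohB1.support E.obj ⊆ CohB1.support F.obj) : P E := by
  refine hP.of_quot E fun Q π hπ hQ => ?_
  have hQs : CohB1.support Q.obj ⊆ CohB1.support F.obj := (support_subset_of_epi π).trans hE
  let η := (K658.LocOpen.adjQ U).unit.app Q
  have hRη : IsIso ((restrictQ U).map η) := by
    have h2 := (K658.LocOpen.adjQ U).left_triangle_components Q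
    have h3 : (restrictQ U).map η = inv ((K658.LocOpen.adjQ U).counit.app ((restrictQ U).obj Q)) := by
      rw [← cancel_mono ((K658.LocOpen.adjQ U).counit.app ((restrictQ U).obj Q)), h2]
      simp
    rw [h3]
    infer_instance
  have hKU : SQ U (kernel η) := by
    have e := PreservesKernel.iso (restrictQ U) η
    exact (isZero_kernel_of_mono _).of_iso e
  by_cases hK : IsZero (kernel η)
  · -- `Q` embeds in `j_* (Q|_U)`
    have hmono : Mono η := Preadditive.mono_of_isZero_kernel _ hK
    have hQU : ¬ IsZero ((Scheme.Modules.restrictFunctor U.ι).obj Q.obj) := by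
      intro h
      apply hQ
      have h1 : IsZero ((restrictQ U).obj Q) := (SQ_iff U Q).2 h
      exact IsZero.of_mono η ((pushQ U.ι).map_isZero h1)
    obtain ⟨φ, hφ⟩ := SuppAff.exists_hom_ne_zero F.obj Q.obj F.property hF Q.property hU hQU hQs
    let ψ : (restrictQ U).obj F ⟶ (restrictQ U).obj Q := ObjectProperty.homMk φ
    have hψ : ψ ≠ 0 := by
      intro h
      exact hφ (congrArg (fun t => t.hom) h)
    let f : F ⟶ (pushQ U.ι).obj ((restrictQ U).obj Q) :=
      (K658.LocOpen.adjQ U).homEquiv _ _ ψ
    have hf : (restrictQ U).map f ≠ 0 := by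
      intro h
      apply hψ
      have h1 : ((K658.LocOpen.adjQ U).homEquiv _ _).symm f = ψ := Equiv.symm_apply_apply _ _
      rw [Adjunction.homEquiv_counit, h, zero_comp] at h1
      exact h1.symm
    have hN : P (pullback f η) := hP.sub (pullback.fst f η) hPF
    refine ⟨pullback f η, pullback.snd f η, hN, fun h0 => hf ?_⟩
    have hsq : IsPullback ((restrictQ U).map (pullback.fst f η)) ((restrictQ U).map (pullback.snd f η))
        ((restrictQ U).map f) ((restrictQ U).map η) := (IsPullback.of_hasPullback f η).map _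
    have : IsIso ((restrictQ U).map (pullback.fst f η)) := by
      exact hsq.isIso_fst_of_isIso
    rw [← cancel_epi ((restrictQ U).map (pullback.fst f η)), hsq.w, h0, comp_zero]
    simp
  · refine ⟨kernel η, kernel.ι η, hA _ ((support_subset_of_mono (kernel.ι η)).trans hQs) hKU, ?_⟩
    intro h
    exact hK (IsZero.of_mono_eq_zero _ h)

theorem gen_of_two [CompactSpace X] [QuasiSeparatedSpace X] {U V : X.Opens} (hUV : U ⊔ V = ⊤)
    (hU : IsAffineOpen U) [QuasiCompact U.ι] [QuasiCompact V.ι] (IH : Gen (↑V : Scheme.{u})) :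
    Gen X := by
  intro F hF P hP hPF E hE
  exact stepB hU F hF P hP hPF (fun E' hE' hEU => stepA hUV hU.isCompact IH F hF P hP hPF E' hE' hEU)
    E hE

theorem gen_of_fin (n : ℕ) : ∀ (X : Scheme.{u}) [CompactSpace X] [QuasiSeparatedSpace X]
    (W : Fin n → X.Opens) (_ : ∀ i, IsAffineOpen (W i)) (_ : ⨆ i, W i = ⊤), Gen X := by
  induction n with
  | zero =>
    intro X _ _ W _ hcov F hF P hP hPF E hE
    apply hP.zero
    rw [isZero_iff_sections]
    intro U
    have key (s : Γ(E.obj, U)) : s = 0 := by
      refine Groth.Agent.Ega1.SubSheaf.section_ext E.obj _ _ fun x hx ↦ ?_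
      have : x ∈ (⨆ i, W i : X.Opens) := by rw [hcov]; trivial
      obtain ⟨i, -⟩ := TopologicalSpace.Opens.mem_iSup.1 this
      exact i.elim0
    exact ⟨fun a b ↦ by rw [key a, key b]⟩
  | succ n ih =>
    intro X _ _ W hW hcov
    let U : X.Opens := W 0
    let V : X.Opens := ⨆ i : Fin n, W i.succ
    have hUV : U ⊔ V = ⊤ := by
      rw [← hcov]
      apply le_antisymm
      · exact sup_le (le_iSup W 0) (iSup_le fun i => le_iSup W i.succ)
      · refine iSup_le fun i => ?_
        refine Fin.cases ?_ (fun j => ?_) i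
        · exact le_sup_left
        · exact le_sup_of_le_right (le_iSup (fun i : Fin n => W i.succ) j)
    have hVc : IsCompact (V : Set X) := by
      change IsCompact ((⨆ i : Fin n, W i.succ : X.Opens) : Set X)
      rw [TopologicalSpace.Opens.coe_iSup]
      exact isCompact_iUnion fun i => (hW i.succ).isCompact
    have hUc : CompactSpace (↑U : Scheme.{u}) := isCompact_iff_compactSpace.1 (hW 0).isCompact
    have : CompactSpace (↑V : Scheme.{u}) := isCompact_iff_compactSpace.1 hVc
    have : QuasiSeparatedSpace (↑V : Scheme.{u}) := quasiSeparatedSpace_of_quasiSeparated V.ι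
    refine gen_of_two hUV (hW 0) (ih (↑V : Scheme.{u}) (fun i => V.ι ⁻¹ᵁ (W i.succ)) ?_ ?_)
    · intro i
      exact (hW i.succ).preimage_of_isOpenImmersion V.ι (by
        rw [Scheme.Opens.opensRange_ι]
        exact le_iSup (fun i : Fin n => W i.succ) i)
    · rw [← Scheme.Hom.preimage_iSup]
      change V.ι ⁻¹ᵁ V = ⊤
      simp

/-- A finitely presented module generates all modules supported in its support. -/
theorem gen [CompactSpace X] [QuasiSeparatedSpace X] : Gen X := by
  let 𝒰 := X.affineCover.finiteSubcover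
  obtain ⟨n, ⟨e⟩⟩ := Finite.exists_equiv_fin 𝒰.I₀
  refine gen_of_fin n X (fun i => (𝒰.f (e.symm i)).opensRange) (fun i => isAffineOpen_opensRange _) ?_
  rw [eq_top_iff]
  intro x _
  obtain ⟨i, y, hy⟩ := 𝒰.exists_eq x
  refine TopologicalSpace.Opens.mem_iSup.2 ⟨e i, ?_⟩
  rw [Equiv.symm_apply_apply]
  exact ⟨y, hy⟩

end K592.SuppGen
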