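import Groth.Agent.FunMor.K592.Psi

/-!
# Sections over corresponding opens
-/

set_option autoImplicit false
universe u

open CategoryTheory CategoryTheory.Limits AlgebraicGeometry TopologicalSpace Opposite
open Groth.Agent.Ega1.SubSheaf

namespace K592.Theta

open K658.LocOpen K658.PushPull K658.ZeroOn K658.Abel K592.Localizing K592.OpenQ K592.SuppGen
  K592.Corr K592.AppR K592.Psi QCohCat

variable {X Y : Scheme.{u}}

/-- The structure sheaf as a quasi-coherent module. -/
noncomputable def OQ (X : Scheme.{u}) : QCoh X :=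
  ⟨Coh.structureModule X, Groth.Agent.PerfA.QCohSerre.isQCoh_unit X⟩

/-- The unit section. -/
noncomputable def oneQ (U : X.Opens) : Γ((OQ X).obj, U) := one U

/-- Functions as sections. -/
noncomputable def funQ {U : X.Opens} : Γ(X, U) ≃+ Γ((OQ X).obj, U) := ofFun

theorem funQ_one {U : X.Opens} : funQ (1 : Γ(X, U)) = oneQ U := rfl

theorem funQ_mul {U : X.Opens} (r s : Γ(X, U)) : funQ (r * s) = r • funQ s := rfl

theorem funQ_eq {U : X.Opens} (r : Γ(X, U)) : funQ r = r • oneQ U := by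
  rw [← funQ_one, ← funQ_mul, mul_one]

theorem res_funQ {U V : X.Opens} (h : V ≤ U) (r : Γ(X, U)) :
    res (OQ X).obj h (funQ r) = funQ (X.presheaf.map (homOfLE h).op r) := rfl

theorem res_oneQ {U V : X.Opens} (h : V ≤ U) : res (OQ X).obj h (oneQ U) = oneQ V := by
  rw [← funQ_one, res_funQ, map_one, funQ_one]

/-- Morphisms of restrictions, on sections. -/
noncomputable def evQ {U : X.Opens} {A B : QCoh X} (g : (restrictQ U).obj A ⟶ (restrictQ U).obj B)
    (a : Γ(A.obj, U)) : Γ(B.obj, U) := ev (A := A.obj) (B := B.obj) g.hom a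

section evQ

variable {U : X.Opens} {A B C : QCoh X}

theorem evQ_map (f : A ⟶ B) (a : Γ(A.obj, U)) : evQ ((restrictQ U).map f) a = f.hom.app U a :=
  ev_map f.hom a

theorem evQ_comp (g : (restrictQ U).obj A ⟶ (restrictQ U).obj B)
    (h : (restrictQ U).obj B ⟶ (restrictQ U).obj C) (a : Γ(A.obj, U)) :
    evQ (g ≫ h) a = evQ h (evQ g a) := ev_comp (A := A.obj) (B := B.obj) (C := C.obj) g.hom h.hom a

theorem evQ_id (a : Γ(A.obj, U)) : evQ (𝟙 ((restrictQ U).obj A)) a = a :=
  ev_id (A := A.obj) a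

theorem evQ_smul (g : (restrictQ U).obj A ⟶ (restrictQ U).obj B) (r : Γ(X, U)) (a : Γ(A.obj, U)) :
    evQ g (r • a) = r • evQ g a := ev_smul (A := A.obj) (B := B.obj) g.hom r a

theorem evQ_add_left (g g' : (restrictQ U).obj A ⟶ (restrictQ U).obj B) (a : Γ(A.obj, U)) :
    evQ (g + g') a = evQ g a + evQ g' a := ev_add_left (A := A.obj) (B := B.obj) g.hom g'.hom a

/-- The morphism from `O_X` attached to a section. -/
noncomputable def mor (M : QCoh X) (m : Γ(M.obj, U)) :
    (restrictQ U).obj (OQ X) ⟶ (restrictQ U).obj M :=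
  ObjectProperty.homMk (ofSec m)

theorem evQ_mor (M : QCoh X) (m : Γ(M.obj, U)) : evQ (mor M m) (oneQ U) = m := ev_ofSec m

theorem ext_evQ {M : QCoh X} {g g' : (restrictQ U).obj (OQ X) ⟶ (restrictQ U).obj M}
    (H : evQ g (oneQ U) = evQ g' (oneQ U)) : g = g' := by
  apply ObjectProperty.hom_ext
  exact hom_ext_ev (M := M.obj) H

theorem mor_evQ {M : QCoh X} (g : (restrictQ U).obj (OQ X) ⟶ (restrictQ U).obj M) :
    mor M (evQ g (oneQ U)) = g := ext_evQ (evQ_mor _ _)

end evQ

variable {Φ : QCoh X ≌ QCoh Y} (ε : Φ.functor.obj (OQ X) ≅ OQ Y)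

/-- The generator of `Φ(O_X)`. -/
noncomputable def gen (V : Y.Opens) : Γ((Φ.functor.obj (OQ X)).obj, V) := ε.inv.hom.app V (oneQ V)

theorem res_gen {V V' : Y.Opens} (h : V' ≤ V) : res _ h (gen ε V) = gen ε V' := by
  unfold gen
  rw [← app_res]
  congr 1
  exact res_oneQ h

/-- The coordinate of a section of `Φ(O_X)`. -/
noncomputable def crd (V : Y.Opens) (t : Γ((Φ.functor.obj (OQ X)).obj, V)) : Γ(Y, V) :=
  funQ.symm (ε.hom.hom.app V t)

theorem hom_inv_app (V : Y.Opens) (t : Γ((Φ.functor.obj (OQ X)).obj, V)) :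
    ε.inv.hom.app V (ε.hom.hom.app V t) = t := by
  have h1 : ε.hom.hom ≫ ε.inv.hom = 𝟙 _ := congrArg (fun k => k.hom) ε.hom_inv_id
  exact congr($(h1).app V t)

theorem inv_hom_app (V : Y.Opens) (t : Γ((OQ Y).obj, V)) :
    ε.hom.hom.app V (ε.inv.hom.app V t) = t := by
  have h1 : ε.inv.hom ≫ ε.hom.hom = 𝟙 _ := congrArg (fun k => k.hom) ε.inv_hom_id
  exact congr($(h1).app V t)

theorem crd_smul_gen {V : Y.Opens} (t : Γ((Φ.functor.obj (OQ X)).obj, V)) :
    crd ε V t • gen ε V = t := by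
  unfold gen
  have h1 : crd ε V t • oneQ V = ε.hom.hom.app V t := by
    rw [← funQ_eq]
    exact AddEquiv.apply_symm_apply _ _
  have h2 := Scheme.Modules.Hom.app_smul ε.inv.hom (crd ε V t) (oneQ V)
  rw [h1, hom_inv_app] at h2
  exact h2.symm

theorem crd_smul {V : Y.Opens} (r : Γ(Y, V)) (t : Γ((Φ.functor.obj (OQ X)).obj, V)) :
    crd ε V (r • t) = r * crd ε V t := by
  unfold crd
  rw [Scheme.Modules.Hom.app_smul]
  rfl

theorem crd_gen (V : Y.Opens) : crd ε V (gen ε V) = 1 := by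
  unfold crd gen
  rw [inv_hom_app]
  rfl

theorem crd_add {V : Y.Opens} (t t' : Γ((Φ.functor.obj (OQ X)).obj, V)) :
    crd ε V (t + t') = crd ε V t + crd ε V t' := by
  unfold crd
  rw [map_add, map_add]

theorem crd_res {V V' : Y.Opens} (h : V' ≤ V) (t : Γ((Φ.functor.obj (OQ X)).obj, V)) :
    crd ε V' (res _ h t) = Y.presheaf.map (homOfLE h).op (crd ε V t) := by
  unfold crd
  rw [app_res]
  rfl

variable {U : X.Opens} {V : Y.Opens} (h : Match Φ U V) [QuasiCompact U.ι] [QuasiCompact V.ι]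

/-- The map on sections. -/
noncomputable def theta (M : QCoh X) (m : Γ(M.obj, U)) : Γ((Φ.functor.obj M).obj, V) :=
  evQ (psi h (mor M m)) (gen ε V)

theorem theta_nat {M M' : QCoh X} (k : M ⟶ M') (m : Γ(M.obj, U)) :
    theta ε h M' (k.hom.app U m) = (Φ.functor.map k).hom.app V (theta ε h M m) := by
  have h1 : mor M' (k.hom.app U m) = mor M m ≫ (restrictQ U).map k := by
    apply ext_evQ
    rw [evQ_comp, evQ_mor, evQ_map, evQ_mor]
  unfold theta
  rw [h1, psi_comp, psi_map, evQ_comp, evQ_map]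

theorem theta_add (M : QCoh X) (m m' : Γ(M.obj, U)) :
    theta ε h M (m + m') = theta ε h M m + theta ε h M m' := by
  have h1 : mor M (m + m') = mor M m + mor M m' := by
    apply ext_evQ
    rw [evQ_add_left, evQ_mor, evQ_mor, evQ_mor]
  unfold theta
  rw [h1, psi_add, evQ_add_left]

/-- The map on functions. -/
noncomputable def sig (r : Γ(X, U)) : Γ(Y, V) := crd ε V (theta ε h (OQ X) (funQ r))

theorem theta_smul (M : QCoh X) (r : Γ(X, U)) (m : Γ(M.obj, U)) :
    theta ε h M (r • m) = sig ε h r • theta ε h M m := by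
  have h1 : mor M (r • m) = mor (OQ X) (funQ r) ≫ mor M m := by
    apply ext_evQ
    rw [evQ_comp, evQ_mor, evQ_mor, funQ_eq, evQ_smul, evQ_mor]
  unfold theta
  rw [h1, psi_comp, evQ_comp]
  have h4 : evQ (psi h (mor (OQ X) (funQ r))) (gen ε V) = sig ε h r • gen ε V :=
    (crd_smul_gen ε _).symm
  rw [h4, evQ_smul]

theorem sig_one : sig ε h 1 = 1 := by
  unfold sig theta
  have h1 : mor (OQ X) (funQ (1 : Γ(X, U))) = 𝟙 _ := by
    apply ext_evQ
    rw [evQ_id]
    exact evQ_mor (OQ X) _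
  have h2 : psi h (𝟙 ((restrictQ U).obj (OQ X))) = 𝟙 _ := by
    have := psi_map h (𝟙 (OQ X))
    rwa [CategoryTheory.Functor.map_id, CategoryTheory.Functor.map_id, CategoryTheory.Functor.map_id] at this
  rw [h1, h2, evQ_id, crd_gen]

theorem sig_mul (r s : Γ(X, U)) : sig ε h (r * s) = sig ε h r * sig ε h s := by
  unfold sig
  rw [funQ_mul, theta_smul, crd_smul]
  rfl

theorem sig_add (r s : Γ(X, U)) : sig ε h (r + s) = sig ε h r + sig ε h s := by
  unfold sig
  rw [map_add, theta_add, crd_add]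

theorem theta_res {U' : X.Opens} {V' : Y.Opens} (h' : Match Φ U' V') [QuasiCompact U'.ι]
    [QuasiCompact V'.ι] (hU : U' ≤ U) (hV : V' ≤ V) (M : QCoh X) (m : Γ(M.obj, U)) :
    theta ε h' M (res M.obj hU m) = res _ hV (theta ε h M m) := by
  let s : M ⟶ (pushQ U.ι).obj ((restrictQ U).obj M) := (K658.LocOpen.adjQ U).unit.app M
  let f : OQ X ⟶ (pushQ U.ι).obj ((restrictQ U).obj M) :=
    (K658.LocOpen.adjQ U).homEquiv _ _ (mor M m)
  have e1 : mor M m ≫ (restrictQ U).map s = (restrictQ U).map f := frac _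
  have e2 : s.hom.app U m = f.hom.app U (oneQ U) := by
    rw [← evQ_map, ← evQ_map, ← e1, evQ_comp, evQ_mor]
  have e3 : mor M (res M.obj hU m) ≫ (restrictQ U').map s = (restrictQ U').map f := by
    apply ext_evQ
    rw [evQ_comp, evQ_map, evQ_map, evQ_mor]
    have h1 := app_res s.hom hU m
    have h2 := app_res f.hom hU (oneQ U)
    have h3 : res (OQ X).obj hU (oneQ U) = oneQ U' := res_oneQ hU
    rw [h1, e2, ← h2, h3]
  have key : ∀ {U₁ : X.Opens} {V₁ : Y.Opens} (h₁ : Match Φ U₁ V₁) [QuasiCompact U₁.ι]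
      [QuasiCompact V₁.ι] (m₁ : Γ(M.obj, U₁)), mor M m₁ ≫ (restrictQ U₁).map s = (restrictQ U₁).map f →
      (Φ.functor.map s).hom.app V₁ (theta ε h₁ M m₁) = (Φ.functor.map f).hom.app V₁ (gen ε V₁) := by
    intro U₁ V₁ h₁ _ _ m₁ e
    unfold theta
    rw [← evQ_map (Φ.functor.map s), ← evQ_comp, ← psi_map h₁, ← psi_comp, e, psi_map, evQ_map]
  have hinj : Function.Injective ((Φ.functor.map s).hom.app V') := by
    have hw : WQ V' (Φ.functor.map s) := (WQ_map_iff h' s).1 (WQ_mono hU s (WQ_unit M))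
    have hiso : IsIso ((restrictQ V').map (Φ.functor.map s)) := hw
    intro a b hab
    have h1 : ∀ c, evQ (inv ((restrictQ V').map (Φ.functor.map s)))
        ((Φ.functor.map s).hom.app V' c) = c := by
      intro c
      rw [← evQ_map (Φ.functor.map s), ← evQ_comp, IsIso.hom_inv_id, evQ_id]
    rw [← h1 a, ← h1 b, hab]
  apply hinj
  rw [key h' _ e3, app_res, key h _ e1, ← app_res, res_gen]

theorem theta_bijective (M : QCoh X) : Function.Bijective (theta ε h M) := by
  have hε : ∀ g g' : (restrictQ V).obj (Φ.functor.obj (OQ X)) ⟶ (restrictQ V).obj (Φ.functor.obj M),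
      evQ g (gen ε V) = evQ g' (gen ε V) → g = g' := by
    intro g g' hgg
    rw [← cancel_epi ((restrictQ V).map ε.inv)]
    apply ext_evQ
    rw [evQ_comp, evQ_comp, evQ_map]
    exact hgg
  constructor
  · intro m m' hm
    have h1 := (psi h).injective (hε _ _ hm)
    rw [← evQ_mor M m, h1, evQ_mor]
  · intro n
    let g := (restrictQ V).map ε.hom ≫ mor (Φ.functor.obj M) n
    obtain ⟨k, hk⟩ := (psi h).surjective g
    refine ⟨evQ k (oneQ U), ?_⟩
    unfold theta
    rw [mor_evQ, hk]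
    change evQ ((restrictQ V).map ε.hom ≫ mor (Φ.functor.obj M) n) (ε.inv.hom.app V (oneQ V)) = n
    rw [evQ_comp, evQ_map]
    have h1 := inv_hom_app ε V (oneQ V)
    rw [h1, evQ_mor]

theorem sig_bijective : Function.Bijective (sig ε h) := by
  have h1 : Function.Bijective (crd ε V) := by
    refine ⟨fun a b hab => ?_, fun r => ⟨r • gen ε V, ?_⟩⟩
    · rw [← crd_smul_gen ε a, ← crd_smul_gen ε b, hab]
    · rw [crd_smul, crd_gen, mul_one]
  exact h1.comp ((theta_bijective ε h (OQ X)).comp funQ.bijective)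

theorem sig_res {U' : X.Opens} {V' : Y.Opens} (h' : Match Φ U' V') [QuasiCompact U'.ι]
    [QuasiCompact V'.ι] (hU : U' ≤ U) (hV : V' ≤ V) (r : Γ(X, U)) :
    sig ε h' (X.presheaf.map (homOfLE hU).op r) = Y.presheaf.map (homOfLE hV).op (sig ε h r) := by
  unfold sig
  rw [← crd_res, ← theta_res ε h h' hU hV]
  rfl

end K592.Theta
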