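import Groth.Agent.FunMor.K592.Linv
import Groth.Agent.PerfB.TensInv
import Groth.Agent.Grpsch.PicGrp
import Groth.Agent.Ega1.TensorRestrict

/-!
# Gabriel–Rosenberg: the general case, by twisting
-/

set_option autoImplicit false
universe u

open CategoryTheory CategoryTheory.Limits AlgebraicGeometry TopologicalSpace Opposite

namespace K592.Twist

open K658.LocOpen K658.PushPull K658.ZeroOn K658.Abel K592.Localizing K592.OpenQ K592.SuppGen
  K592.Corr K592.Psi K592.Theta QCohCat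

variable {X Y : Scheme.{u}}

theorem isQCoh_of_isInvertible {L : Y.Modules} (hL : PicF.IsInvertible L) : Coh.IsQCoh L :=
  Groth.Agent.PerfB.TensInv.isQCoh_of_isInvertible hL

/-- Tensoring with an invertible module. -/
noncomputable def tw {L : Y.Modules} (hL : Coh.IsQCoh L) : QCoh Y ⥤ QCoh Y :=
  ObjectProperty.lift _ ((isQCoh Y).ι ⋙ DCoh.tensorRightMod L)
    fun M => Groth.Agent.Ega1.TensorRestrict.isQCoh_tensorMod _ _ M.property hL

/-- The twist is invertible. -/
noncomputable def twIso {A B : Y.Modules} (hA : Coh.IsQCoh A) (hB : Coh.IsQCoh B)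
    (e : CohB1.tensorMod A B ≅ Coh.structureModule Y) : tw hA ⋙ tw hB ≅ 𝟭 (QCoh Y) :=
  NatIso.ofComponents (fun M => ObjectProperty.isoMk _
    ((Groth.Agent.PerfB.TensInv.tensorInvIso e).app M.obj)) (fun {M N} f => by
    apply ObjectProperty.hom_ext
    exact (Groth.Agent.PerfB.TensInv.tensorInvIso e).hom.naturality f.hom)

/-- The twist as an equivalence. -/
noncomputable def twE {A B : Y.Modules} (hA : Coh.IsQCoh A) (hB : Coh.IsQCoh B)
    (e : CohB1.tensorMod A B ≅ Coh.structureModule Y) : QCoh Y ≌ QCoh Y :=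
  CategoryTheory.Equivalence.mk (tw hA) (tw hB) (twIso hA hB e).symm
    (twIso hB hA (Groth.Agent.Ega2.Tens.swap B A ≪≫ e))

variable [CompactSpace X] [QuasiSeparatedSpace X] [CompactSpace Y] [QuasiSeparatedSpace Y]

/-- The Gabriel–Rosenberg theorem. -/
theorem main (F : QCoh X ≌ QCoh Y) : ∃ (f : Y ≅ X),
    PicF.IsInvertible (F.functor.obj (OQ X)).obj ∧
      Nonempty (F.functor ⋙ (isQCoh Y).ι ≅ (isQCoh X).ι ⋙ Scheme.Modules.pullback f.hom ⋙
        DCoh.tensorRightMod (F.functor.obj (OQ X)).obj) := by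
  have hL := K592.Linv.isInvertible F
  obtain ⟨T, hT, ⟨e⟩⟩ := Groth.Agent.Grpsch.PicGrp.exists_inverse hL
  have hLq : Coh.IsQCoh (F.functor.obj (OQ X)).obj := (F.functor.obj (OQ X)).property
  have hTq := isQCoh_of_isInvertible hT
  let Φ := F.trans (twE hTq hLq (Groth.Agent.Ega2.Tens.swap _ _ ≪≫ e))
  let ε : Φ.functor.obj (OQ X) ≅ OQ Y := ObjectProperty.isoMk _ e
  obtain ⟨f, ⟨i⟩⟩ := K592.CaseO.main ε
  refine ⟨f, hL, ⟨?_⟩⟩
  let i1 : (F.functor ⋙ (isQCoh Y).ι) ⋙ DCoh.tensorRightMod T ⋙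
      DCoh.tensorRightMod (F.functor.obj (OQ X)).obj ≅ F.functor ⋙ (isQCoh Y).ι :=
    Functor.isoWhiskerLeft _ (Groth.Agent.PerfB.TensInv.tensorInvIso
      (Groth.Agent.Ega2.Tens.swap _ _ ≪≫ e)) ≪≫ Functor.rightUnitor _
  exact i1.symm ≪≫ Functor.isoWhiskerRight i (DCoh.tensorRightMod (F.functor.obj (OQ X)).obj)

end K592.Twist
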